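import Cfsg.Agent.LargeExtra.Transfer
import Cfsg.Agent.Cores.Basic
import Cfsg.Prelude.Def_Solvable

/-!
An involution with a large extraspecial normal 2-subgroup of its centraliser: homomorphisms of the
centraliser to elementary abelian 2-groups and transfer.
-/

set_option autoImplicit false

namespace Cfsg.Agent.LargeExtra

open Cfsg Tr
open scoped Classical

variable {G : Type*} [Group G] [Finite G]

/-- The centraliser of `z` has the self-centralising extraspecial normal subgroup `E`. -/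
structure Setting (z : G) (E : Subgroup G) (n : ℕ) : Prop where
  ci : CentralInvolution E z
  norm : ∀ h : G, h * z = z * h → ∀ e ∈ E, h * e * h⁻¹ ∈ E
  self : Subgroup.centralizer (E : Set G) ≤ E
  card : Nat.card ↥E = 2 ^ (2 * n + 1)

theorem exists_setting {z : G} (hz : orderOf z = 2) {E : Subgroup G}
    (hE : E = (Cfsg.pCore 2 ↥(Subgroup.centralizer ({z} : Set G))).map
      (Subgroup.centralizer ({z} : Set G)).subtype)
    (hext : Cfsg.IsExtraspecial 2 ↥E) (hcent : Subgroup.centralizer (E : Set G) ≤ E) :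
    ∃ n, 1 ≤ n ∧ Setting z E n := by
  haveI : Fact (Nat.Prime 2) := ⟨Nat.prime_two⟩
  obtain ⟨n, hn1, hn⟩ := Cfsg.Agent.PGroup.extraspecial_exists_card hext
  have hnorm : ∀ h : G, h * z = z * h → ∀ e ∈ E, h * e * h⁻¹ ∈ E := by
    intro h hh e he
    rw [hE] at he ⊢
    obtain ⟨x, hx, rfl⟩ := he
    haveI : (Cfsg.pCore 2 ↥(Subgroup.centralizer ({z} : Set G))).Normal := inferInstance
    exact ⟨_, (inferInstance : (Cfsg.pCore 2 ↥(Subgroup.centralizer ({z} : Set G))).Normal).conj_mem x hx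
      ⟨h, Subgroup.mem_centralizer_singleton_iff.2 hh⟩, rfl⟩
  have hcomm : ∀ e ∈ E, e * z = z * e := by
    intro e he
    rw [hE] at he
    exact Subgroup.mem_centralizer_singleton_iff.1 (Subgroup.map_subtype_le _ he)
  have hzE : z ∈ E := hcent fun e he => hcomm e he
  obtain ⟨y, hy⟩ := exists_centralInvolution hext
  have : z = y := by
    rcases hy.of_central z hzE hcomm with h | h
    · rw [h, orderOf_one] at hz; omega
    · exact h
  exact ⟨n, hn1, this ▸ hy, hnorm, hcent, hn⟩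

theorem pResidual_hom_eq_one (hres : Cfsg.pResidual 2 G = ⊤) {A : Type*} [CommGroup A]
    (hA : ∀ a : A, a * a = 1) (V : G →* A) : V = 1 := by
  ext g
  have hg : g ∈ V.ker := by
    have : Cfsg.pResidual 2 G ≤ V.ker := by
      rw [Cfsg.pResidual, Subgroup.closure_le]
      intro x hx
      rw [SetLike.mem_coe, MonoidHom.mem_ker, ← orderOf_eq_one_iff]
      refine Nat.eq_one_of_dvd_coprimes hx.symm ?_ (orderOf_map_dvd V x)
      exact orderOf_dvd_of_pow_eq_one (by rw [pow_two, hA])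
    rw [hres] at this
    exact this (Subgroup.mem_top g)
  exact hg

namespace Setting

variable {z : G} {E : Subgroup G} {n : ℕ}

theorem le_CH (S : Setting z E n) : E ≤ (Subgroup.centralizer ({z} : Set G)) := S.ci.le_centralizer

omit [Finite G] in
theorem smul_eq_self_iff {H : Subgroup G} (h : G) (q : G ⧸ H) : h • q = q ↔ q.out⁻¹ * h * q.out ∈ H := by
  conv_lhs => rw [← QuotientGroup.out_eq' q]
  show ((h * q.out : G) : G ⧸ H) = ((q.out : G) : G ⧸ H) ↔ _
  rw [eq_comm, QuotientGroup.eq, mul_assoc]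

omit [Finite G] in
theorem smul_eq_self_iff_commute (h : G) (q : G ⧸ (Subgroup.centralizer ({z} : Set G))) :
    h • q = q ↔ h * (q.out * z * q.out⁻¹) = q.out * z * q.out⁻¹ * h := by
  rw [smul_eq_self_iff, Subgroup.mem_centralizer_singleton_iff]
  constructor
  · intro e
    calc h * (q.out * z * q.out⁻¹) = q.out * ((q.out⁻¹ * h * q.out) * z) * q.out⁻¹ := by group
      _ = _ := by rw [e]; group
  · intro e
    calc q.out⁻¹ * h * q.out * z = q.out⁻¹ * (h * (q.out * z * q.out⁻¹)) * q.out := by group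
      _ = _ := by rw [e]; group

omit [Finite G] in
theorem eq_base_of_commute {q : G ⧸ (Subgroup.centralizer ({z} : Set G))} (h : q.out * z * q.out⁻¹ = z) : q = ((1 : G) : G ⧸ (Subgroup.centralizer ({z} : Set G))) := by
  refine (QuotientGroup.out_eq' q).symm.trans ?_
  rw [eq_comm, QuotientGroup.eq, inv_one, one_mul, Subgroup.mem_centralizer_singleton_iff]
  exact mul_inv_eq_iff_eq_mul.1 h

theorem exists_moved (S : Setting z E n) {q : G ⧸ (Subgroup.centralizer ({z} : Set G))} (hq : q ≠ ((1 : G) : G ⧸ (Subgroup.centralizer ({z} : Set G)))) :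
    ∃ e ∈ E, e • q ≠ q := by
  by_contra h
  push Not at h
  have hw : q.out * z * q.out⁻¹ ∈ Subgroup.centralizer (E : Set G) := fun e he =>
    (smul_eq_self_iff_commute e q).1 (h e he)
  rcases S.ci.of_central _ (S.self hw) hw with e | e
  · exact S.ci.ne_one (conj_eq_one_iff.1 e)
  · exact hq (eq_base_of_commute e)

theorem comm_cases (S : Setting z E n) : ∀ a ∈ E, ∀ b ∈ E, a⁻¹ * b⁻¹ * a * b = 1 ∨ a⁻¹ * b⁻¹ * a * b = z := by
  intro a ha b hb
  simpa using S.ci.comm_mem (inv_mem ha) (inv_mem hb)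

theorem normal2 (S : Setting z E n) {g : G} (hg : g * z = z * g) (hg2 : ∃ k, orderOf g = 2 ^ k) :
    Normal2 E (E ⊔ Subgroup.zpowers g) z := by
  haveI : Fact (Nat.Prime 2) := ⟨Nat.prime_two⟩
  have hle : E ⊔ Subgroup.zpowers g ≤ (Subgroup.centralizer ({z} : Set G)) :=
    sup_le S.le_CH (Subgroup.zpowers_le.2 (Subgroup.mem_centralizer_singleton_iff.2 hg))
  have hnorm : ∀ m ∈ E ⊔ Subgroup.zpowers g, ∀ e ∈ E, m * e * m⁻¹ ∈ E := fun m hm e he =>
    S.norm m (Subgroup.mem_centralizer_singleton_iff.1 (hle hm)) e he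
  refine ⟨?_, le_sup_left, hnorm, fun m hm => (Subgroup.mem_centralizer_singleton_iff.1 (hle hm)).symm,
    S.ci.mem, fun e he => S.ci.sq_mem he, S.comm_cases⟩
  obtain ⟨k, hk⟩ := hg2
  refine IsPGroup.to_sup_of_normal_left' S.ci.isPGroup
    (IsPGroup.of_card (n := k) (by rw [Nat.card_zpowers, hk])) ?_
  intro x hx
  exact Subgroup.mem_normalizer_iff.2 fun e => ⟨fun he => hnorm x (le_sup_right (a := E) hx) e he,
    fun he => by simpa [mul_assoc] using hnorm x⁻¹ (inv_mem (le_sup_right (a := E) hx)) _ he⟩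

variable {A : Type*} [CommGroup A]

/-- Cosets moved by the central involution contribute trivially. -/
theorem moved_contribution (μ : (Subgroup.centralizer ({z} : Set G)) →* A) (hA : ∀ a : A, a * a = 1) (hz2 : z * z = 1) {x : G}
    (hx : z * x = x * z) : F μ (Finset.univ.filter fun q : G ⧸ (Subgroup.centralizer ({z} : Set G)) => z • q ≠ q) x = 1 := by
  let ι := Fintype.equivFin (G ⧸ (Subgroup.centralizer ({z} : Set G)))
  set T := Finset.univ.filter fun q : G ⧸ (Subgroup.centralizer ({z} : Set G)) => z • q ≠ q with hT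
  set T₀ := T.filter fun q => ι q < ι (z • q) with hT₀
  set T₁ := T.filter fun q => ¬ ι q < ι (z • q) with hT₁
  have hzz : ∀ q : G ⧸ (Subgroup.centralizer ({z} : Set G)), z • z • q = q := fun q => by rw [smul_smul, hz2, one_smul]
  have hmemT : ∀ q ∈ T, z • q ∈ T := fun q hq => by
    simp only [hT, Finset.mem_filter, Finset.mem_univ, true_and] at hq ⊢
    rw [hzz]
    exact Ne.symm hq
  have hxT : ∀ q ∈ T, x • q ∈ T := fun q hq => by
    simp only [hT, Finset.mem_filter, Finset.mem_univ, true_and] at hq ⊢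
    intro h
    apply hq
    rw [smul_smul, hx, mul_smul] at h
    exact smul_left_cancel x h
  have hlt : ∀ q ∈ T, ¬ ι q < ι (z • q) → ι (z • q) < ι q := fun q hq h => by
    simp only [hT, Finset.mem_filter, Finset.mem_univ, true_and] at hq
    exact lt_of_le_of_ne (not_lt.1 h) fun e => hq (ι.injective e)
  have himg : T₁ = T₀.image (z • ·) := by
    ext q
    simp only [hT₁, hT₀, Finset.mem_filter, Finset.mem_image]
    constructor
    · rintro ⟨hq, h⟩
      exact ⟨z • q, ⟨hmemT q hq, by rw [hzz]; exact hlt q hq h⟩, hzz q⟩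
    · rintro ⟨r, ⟨hr, h⟩, rfl⟩
      exact ⟨hmemT r hr, by rw [hzz]; exact not_lt.2 h.le⟩
  -- the value of the involution on a pair
  set χ : G ⧸ (Subgroup.centralizer ({z} : Set G)) → A := fun q => coc μ z q with hχ
  have hχz : ∀ q, χ (z • q) = χ q := fun q => by
    have h := coc_mul μ z z q
    rw [hz2, coc_one] at h
    calc χ (z • q) = χ (z • q) * (χ q * χ q) := by rw [hA, mul_one]
      _ = χ q := by rw [← mul_assoc, hχ, ← h, one_mul]
  have hpair : ∀ q, coc μ x (z • q) = χ (x • q) * χ q * coc μ x q := fun q => by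
    have h1 := coc_mul μ x z q
    have h2 := coc_mul μ z x q
    rw [hx, h1] at h2
    calc coc μ x (z • q) = coc μ x (z • q) * χ q * χ q := by rw [mul_assoc, hA, mul_one]
      _ = _ := by rw [hχ]; simp only; rw [h2, mul_right_comm]
  have hsplit : F μ T x = ∏ q ∈ T₀, χ (x • q) * χ q := by
    unfold F
    rw [← Finset.prod_filter_mul_prod_filter_not T (fun q => ι q < ι (z • q))]
    show (∏ q ∈ T₀, coc μ x q) * ∏ q ∈ T₁, coc μ x q = _
    rw [himg, Finset.prod_image (fun a _ b _ h => smul_left_cancel z h), ← Finset.prod_mul_distrib]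
    refine Finset.prod_congr rfl fun q _ => ?_
    rw [hpair, mul_comm (coc μ x q), mul_assoc, hA, mul_one]
  let φ : G ⧸ (Subgroup.centralizer ({z} : Set G)) → G ⧸ (Subgroup.centralizer ({z} : Set G)) := fun q => if ι (x • q) < ι (z • x • q) then x • q else z • x • q
  have hφ : ∀ q, φ q = x • q ∨ φ q = z • x • q := fun q => by
    simp only [φ]; split_ifs <;> simp
  have hφT : ∀ q ∈ T₀, φ q ∈ T₀ := fun q hq => by
    have hq' := hxT q (Finset.mem_filter.1 hq).1
    simp only [φ, hT₀, Finset.mem_filter]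
    split_ifs with h
    · exact ⟨hq', h⟩
    · exact ⟨hmemT _ hq', by rw [hzz]; exact hlt _ hq' h⟩
  have hinj : Set.InjOn φ T₀ := by
    intro a ha b hb h
    have ha' := (Finset.mem_filter.1 ha).2
    have hb' := (Finset.mem_filter.1 hb).2
    rcases hφ a with e1 | e1 <;> rcases hφ b with e2 | e2 <;> rw [e1, e2] at h
    · exact smul_left_cancel x h
    · rw [smul_smul, hx, mul_smul] at h
      have := smul_left_cancel x h
      rw [this, hzz] at ha'
      exact absurd hb' (not_lt.2 ha'.le)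
    · rw [smul_smul, hx, mul_smul] at h
      have := smul_left_cancel x h
      rw [← this, hzz] at hb'
      exact absurd ha' (not_lt.2 hb'.le)
    · exact smul_left_cancel x (smul_left_cancel z h)
  have himgφ : T₀.image φ = T₀ := Finset.eq_of_subset_of_card_le (Finset.image_subset_iff.2 hφT)
    (by rw [Finset.card_image_of_injOn hinj])
  have hsame : ∏ q ∈ T₀, χ (x • q) = ∏ q ∈ T₀, χ q := by
    conv_rhs => rw [← himgφ, Finset.prod_image hinj]
    refine Finset.prod_congr rfl fun q _ => ?_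
    rcases hφ q with e | e <;> rw [e]
    rw [hχz]
  rw [hsplit, Finset.prod_mul_distrib, hsame, hA]

theorem exists_two_part (h : G) (hA : ∀ a : A, a * a = 1) :
    ∃ m : ℕ, (∃ k, orderOf (h ^ m) = 2 ^ k) ∧ ∀ a : A, a ^ m = a := by
  obtain ⟨k, m, hm, he⟩ := Nat.exists_eq_pow_mul_and_not_dvd (orderOf_pos h).ne' 2 (by norm_num)
  have hm0 : m ≠ 0 := by rintro rfl; exact hm (dvd_zero 2)
  refine ⟨m, ⟨k, ?_⟩, fun a => ?_⟩
  · rw [orderOf_pow' h hm0, he, Nat.gcd_eq_right (dvd_mul_left m (2 ^ k)),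
      Nat.mul_div_cancel _ (Nat.pos_of_ne_zero hm0)]
  · obtain ⟨j, rfl⟩ : Odd m := Nat.odd_iff.2 (by omega)
    rw [pow_succ, pow_mul, pow_two, hA, one_pow, one_mul]

/-- If every orbit other than that of `z` contributes trivially at a 2-element, the value there is trivial. -/
theorem value_eq_one (S : Setting z E n) (hres : Cfsg.pResidual 2 G = ⊤) (μ : (Subgroup.centralizer ({z} : Set G)) →* A)
    (hA : ∀ a : A, a * a = 1) {g : G} (hgH : g ∈ Subgroup.centralizer ({z} : Set G))
    (hg2 : ∃ k, orderOf g = 2 ^ k)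
    (hF : ∀ q : G ⧸ (Subgroup.centralizer ({z} : Set G)),
      q ≠ ((1 : G) : G ⧸ (Subgroup.centralizer ({z} : Set G))) → z • q = q →
        F μ (orb (E ⊔ Subgroup.zpowers g) q) g = 1) : μ ⟨g, hgH⟩ = 1 := by
  let V : G →* A :=
    { toFun := fun g => F μ Finset.univ g
      map_one' := F_one μ _
      map_mul' := fun g h => F_mul μ g fun _ _ => Finset.mem_univ _ }
  have hV := pResidual_hom_eq_one hres hA V
  have hgz : g * z = z * g := Subgroup.mem_centralizer_singleton_iff.1 hgH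
  set M := E ⊔ Subgroup.zpowers g with hMdef
  have hM := S.normal2 hgz hg2
  have hgM : g ∈ M := le_sup_right (a := E) (Subgroup.mem_zpowers g)
  have h1 : F μ Finset.univ g = 1 := DFunLike.congr_fun hV g
  set T := Finset.univ.filter fun q : G ⧸ (Subgroup.centralizer ({z} : Set G)) => z • q ≠ q
  set U := Finset.univ.filter fun q : G ⧸ (Subgroup.centralizer ({z} : Set G)) => ¬ z • q ≠ q
  have hU : ∀ q, q ∈ U ↔ z • q = q := fun q => by simp [U]
  have hsplit : F μ Finset.univ g = F μ T g * F μ U g :=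
    (Finset.prod_filter_mul_prod_filter_not Finset.univ _ _).symm
  rw [hsplit, moved_contribution μ hA S.ci.sq hgz.symm, one_mul] at h1
  have horbU : ∀ q ∈ U, ∀ r ∈ orb M q, r ∈ U := by
    intro q hq r hr
    obtain ⟨a, ha, rfl⟩ := mem_orb.1 hr
    rw [hU] at hq ⊢
    rw [smul_smul, hM.central a ha, mul_smul, hq]
  set b : G ⧸ (Subgroup.centralizer ({z} : Set G)) := ((1 : G) : G ⧸ (Subgroup.centralizer ({z} : Set G))) with hb
  have hfix : ∀ a ∈ (Subgroup.centralizer ({z} : Set G)), a • b = b := fun a ha => by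
    show ((a * 1 : G) : G ⧸ (Subgroup.centralizer ({z} : Set G))) = ((1 : G) : G ⧸ (Subgroup.centralizer ({z} : Set G)))
    rw [QuotientGroup.eq, mul_one, mul_one]
    exact inv_mem ha
  have hbU : b ∈ U := (hU b).2 (hfix z (S.le_CH S.ci.mem))
  have hMle : M ≤ (Subgroup.centralizer ({z} : Set G)) := sup_le S.le_CH (Subgroup.zpowers_le.2 hgH)
  have hborb : orb M b = {b} := by
    ext r
    rw [mem_orb, Finset.mem_singleton]
    exact ⟨fun ⟨a, ha, e⟩ => by rw [← e, hfix a (hMle ha)], fun e => ⟨1, one_mem _, by rw [e, one_smul]⟩⟩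
  unfold F at h1
  rw [← Finset.prod_fiberwise_of_maps_to (t := U.image (orb M)) (g := orb M)
      (fun q hq => Finset.mem_image_of_mem _ hq), Finset.prod_eq_single (orb M b)] at h1
  · rw [Finset.filter_congr (q := fun r => r = b) (fun r hr => ?_), Finset.filter_eq', if_pos hbU,
      Finset.prod_singleton, coc_base μ hgH] at h1
    · exact h1
    · constructor
      · intro e
        have := self_mem_orb M r
        rw [e, hborb, Finset.mem_singleton] at this
        exact this
      · intro e; rw [e]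
  · intro O hO hOb
    obtain ⟨q, hq, rfl⟩ := Finset.mem_image.1 hO
    have hfil : U.filter (fun r => orb M r = orb M q) = orb M q := by
      ext r
      rw [Finset.mem_filter]
      exact ⟨fun h => h.2 ▸ self_mem_orb M r, fun h => ⟨horbU q hq r h, orb_eq_of_mem h⟩⟩
    rw [hfil]
    have hqb : q ≠ b := fun e => hOb (by rw [e])
    exact hF q hqb ((hU q).1 hq)
  · intro h
    exact absurd (Finset.mem_image_of_mem _ hbU) h

/-- If every orbit of `E` other than that of `z` contributes trivially, every homomorphism of the centraliser to an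
elementary abelian 2-group is trivial. -/
theorem hom_eq_one (S : Setting z E n) (hres : Cfsg.pResidual 2 G = ⊤) (μ : (Subgroup.centralizer ({z} : Set G)) →* A)
    (hA : ∀ a : A, a * a = 1)
    (hcond : ∀ q : G ⧸ (Subgroup.centralizer ({z} : Set G)),
      q ≠ ((1 : G) : G ⧸ (Subgroup.centralizer ({z} : Set G))) → z • q = q →
      (∀ e ∈ E, e • q = q → coc μ e q = 1) ∨
      (4 ≤ (orb E q).card ∧ coc μ z q = 1) ∨ 8 ≤ (orb E q).card) : μ = 1 := by
  ext ⟨h, hh⟩
  obtain ⟨m, hm2, hma⟩ := exists_two_part (A := A) h hA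
  have hgz : h ^ m * z = z * h ^ m := Subgroup.mem_centralizer_singleton_iff.1 (pow_mem hh m)
  have := S.value_eq_one hres μ hA (g := h ^ m) (pow_mem hh m) hm2 fun q hq hzq =>
    F_eq_one μ hA hzq (S.exists_moved hq) (hcond q hq hzq) _ (S.normal2 hgz hm2) _
      (le_sup_right (a := E) (Subgroup.mem_zpowers _))
  have h2 : μ ⟨h, hh⟩ ^ m = 1 := by rw [← map_pow]; exact this
  rwa [hma] at h2

/-- The point stabiliser in `E` is either abelian and small, or has `z` as a commutator. -/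
theorem orbit_cases (S : Setting z E n) {q : G ⧸ (Subgroup.centralizer ({z} : Set G))} (hq : q ≠ ((1 : G) : G ⧸ (Subgroup.centralizer ({z} : Set G)))) :
    (2 ^ n ≤ (orb E q).card) ∨
      ((∃ a ∈ E, ∃ b ∈ E, a • q = q ∧ b • q = q ∧ a⁻¹ * b⁻¹ * a * b = z) ∧
        ((orb E q).card = 2 ∨ 4 ≤ (orb E q).card)) := by
  haveI : Fact (Nat.Prime 2) := ⟨Nat.prime_two⟩
  set C := MulAction.stabilizer (↥E) q with hC
  have hcard : Nat.card ↥E = (orb E q).card * Nat.card ↥C := by
    have h1 : C.index = (orb E q).card := by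
      rw [hC, MulAction.index_stabilizer]
      rw [← Nat.card_coe_set_eq, ← Nat.card_eq_finsetCard]
      refine Nat.card_congr (Equiv.subtypeEquivRight fun r => ?_)
      rw [mem_orb]
      exact ⟨fun ⟨e, he⟩ => ⟨e, e.2, he⟩, fun ⟨e, he, h⟩ => ⟨⟨e, he⟩, h⟩⟩
    rw [← h1, mul_comm, Subgroup.card_mul_index]
  by_cases habel : IsMulCommutative ↥C
  · left
    have h2 := Cfsg.Agent.PGroup.extraspecial_card_abelian_le S.ci.extra S.card habel
    rw [S.card] at hcard
    have h3 : 2 ^ n * 2 ^ (n + 1) = 2 ^ (2 * n + 1) := by rw [← pow_add]; congr 1; omega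
    by_contra hlt
    push Not at hlt
    have h4 : (orb E q).card * Nat.card ↥C < 2 ^ n * 2 ^ (n + 1) :=
      Nat.mul_lt_mul_of_lt_of_le hlt h2 (pow_pos (by norm_num) _)
    omega
  · right
    refine ⟨?_, ?_⟩
    · by_contra hc
      push Not at hc
      refine habel ⟨⟨fun a b => ?_⟩⟩
      have hab := hc _ a.1.2 _ b.1.2 a.2 b.2
      have := (S.comm_cases _ a.1.2 _ b.1.2).resolve_right hab
      refine Subtype.ext (Subtype.ext ?_)
      show (a.1 : G) * b.1 = b.1 * a.1
      calc (a.1 : G) * b.1 = b.1 * a.1 * ((a.1 : G)⁻¹ * (b.1 : G)⁻¹ * a.1 * b.1) := by group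
        _ = b.1 * a.1 := by rw [this, mul_one]
    · have hdvd : (orb E q).card ∣ 2 ^ (2 * n + 1) := S.card ▸ hcard ▸ dvd_mul_right _ _
      obtain ⟨k, -, hk⟩ := (Nat.dvd_prime_pow Nat.prime_two).1 hdvd
      obtain ⟨e, he, hne⟩ := S.exists_moved hq
      have h1 : 1 < (orb E q).card :=
        Finset.one_lt_card.2 ⟨e • q, mem_orb.2 ⟨e, he, rfl⟩, q, self_mem_orb E q, hne⟩
      match k, hk with
      | 0, hk => simp at hk; omega
      | 1, hk => left; simpa using hk
      | k + 2, hk =>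
        right
        rw [hk]
        calc 4 = 2 ^ 2 := rfl
          _ ≤ 2 ^ (k + 2) := Nat.pow_le_pow_right (by norm_num) (by omega)

omit [Finite G] in
/-- The value at a fixed coset is that of the transported element. -/
theorem coc_fixed (μ : (Subgroup.centralizer ({z} : Set G)) →* A) {e : G} {q : G ⧸ (Subgroup.centralizer ({z} : Set G))} (he : e • q = q) :
    coc μ e q = μ ⟨q.out⁻¹ * e * q.out, (smul_eq_self_iff e q).1 he⟩ := by
  unfold coc
  congr 1
  exact Subtype.ext (by simp only [he])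

omit [Finite G] in
/-- A commutator of elements fixing a coset has trivial value. -/
theorem coc_commutator (μ : (Subgroup.centralizer ({z} : Set G)) →* A) {a b : G} {q : G ⧸ (Subgroup.centralizer ({z} : Set G))} (ha : a • q = q) (hb : b • q = q) :
    coc μ (a⁻¹ * b⁻¹ * a * b) q = 1 := by
  have h : (a⁻¹ * b⁻¹ * a * b) • q = q := by
    simp only [mul_smul, hb, ha, inv_smul_eq_iff]
  rw [coc_fixed μ h]
  have e : (⟨_, (smul_eq_self_iff _ q).1 h⟩ : (Subgroup.centralizer ({z} : Set G))) =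
      (⟨_, (smul_eq_self_iff _ q).1 ha⟩ : (Subgroup.centralizer ({z} : Set G)))⁻¹ * (⟨_, (smul_eq_self_iff _ q).1 hb⟩ : (Subgroup.centralizer ({z} : Set G)))⁻¹ *
        ⟨_, (smul_eq_self_iff _ q).1 ha⟩ * ⟨_, (smul_eq_self_iff _ q).1 hb⟩ := by
    refine Subtype.ext ?_
    simp only [Subgroup.coe_mul, Subgroup.coe_inv]
    group
  rw [e, map_mul, map_mul, map_mul, map_inv, map_inv, mul_assoc _⁻¹ _⁻¹, mul_right_comm, ]
  simp [mul_comm, mul_left_comm]

/-- An element centralising `E` modulo its centre lies in `E`. -/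
theorem mem_of_commutator_center (S : Setting z E n) {d : G} (hd : d * z = z * d)
    (hgood : ∀ e ∈ E, d * e * d⁻¹ * e⁻¹ = 1 ∨ d * e * d⁻¹ * e⁻¹ = z) : d ∈ E := by
  haveI : Fact (Nat.Prime 2) := ⟨Nat.prime_two⟩
  let β : MulAut ↥E :=
    { toFun := fun e => ⟨d * e * d⁻¹, S.norm d hd e e.2⟩
      invFun := fun e => ⟨d⁻¹ * e * d⁻¹⁻¹, S.norm d⁻¹ (by
        calc d⁻¹ * z = d⁻¹ * (z * d) * d⁻¹ := by group
          _ = z * d⁻¹ := by rw [← hd]; group) e e.2⟩
      left_inv := fun e => Subtype.ext (by simp [mul_assoc])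
      right_inv := fun e => Subtype.ext (by simp [mul_assoc])
      map_mul' := fun a b => Subtype.ext (by simp [mul_assoc]) }
  have hzc' : (⟨z, S.ci.mem⟩ : ↥E) ∈ Subgroup.center ↥E :=
    Subgroup.mem_center_iff.2 fun e => Subtype.ext (S.ci.comm e e.2)
  obtain ⟨g, hg⟩ := Cfsg.Agent.PGroup.extraspecial_exists_conj S.ci.extra β fun e => by
    rcases hgood e e.2 with r | r
    · have : β e = e := Subtype.ext (mul_inv_eq_one.1 r)
      rw [this, inv_mul_cancel]
      exact one_mem _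
    · have : β e = ⟨z, S.ci.mem⟩ * e := Subtype.ext (mul_inv_eq_iff_eq_mul.1 r)
      rw [this, ← Subgroup.mem_center_iff.1 hzc' e, inv_mul_cancel_left]
      exact hzc'
  have hgd : (g : G)⁻¹ * d ∈ Subgroup.centralizer (E : Set G) := by
    intro e he
    have h1 : d * e * d⁻¹ = (g : G) * e * (g : G)⁻¹ :=
      congrArg Subtype.val (DFunLike.congr_fun hg (⟨e, he⟩ : ↥E))
    calc e * ((g : G)⁻¹ * d) = (g : G)⁻¹ * ((g : G) * e * (g : G)⁻¹) * d := by group
      _ = (g : G)⁻¹ * (d * e * d⁻¹) * d := by rw [h1]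
      _ = (g : G)⁻¹ * d * e := by group
  simpa using mul_mem g.2 (S.self hgd)


/-- An element centralising `E` up to a four-subgroup lies in `E`. -/
theorem mem_of_commutator_four (S : Setting z E n) {d s : G} (hd : d * z = z * d) (hs : s ∈ E)
    (hs1 : s ≠ 1) (hsz : s ≠ z) (hs2 : s * s = 1)
    (h : ∀ e ∈ E, d * e * d⁻¹ * e⁻¹ = 1 ∨ d * e * d⁻¹ * e⁻¹ = z ∨ d * e * d⁻¹ * e⁻¹ = s ∨
      d * e * d⁻¹ * e⁻¹ = z * s) : d ∈ E := by
  haveI : Fact (Nat.Prime 2) := ⟨Nat.prime_two⟩
  have hzc : ∀ e ∈ E, z * e = e * z := fun e he => (S.ci.comm e he).symm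
  let α : G → G := fun e => d * e * d⁻¹
  have hz : α z = z := mul_inv_eq_iff_eq_mul.2 hd
  -- elements moved out of their class commute with s
  have hbad : ∀ e ∈ E, d * e * d⁻¹ * e⁻¹ ≠ 1 → d * e * d⁻¹ * e⁻¹ ≠ z → s * e = e * s := by
    intro e he h1 h2
    have hsq : α e * α e = e * e := by
      show d * e * d⁻¹ * (d * e * d⁻¹) = e * e
      calc d * e * d⁻¹ * (d * e * d⁻¹) = d * (e * e) * d⁻¹ := by group
        _ = e * e := by
          rcases S.ci.sq_mem he with r | r <;> rw [r]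
          · group
          · exact hz
    have hval : α e = s * e ∨ α e = z * (s * e) := by
      rcases h e he with r | r | r | r
      · exact absurd r h1
      · exact absurd r h2
      · exact Or.inl (mul_inv_eq_iff_eq_mul.1 r)
      · exact Or.inr (by rw [← mul_assoc]; exact mul_inv_eq_iff_eq_mul.1 r)
    have hse : s * e * (s * e) = e * e := by
      rcases hval with r | r
      · rw [← r]; exact hsq
      · rw [r] at hsq
        calc s * e * (s * e) = (z * z) * (s * e * (s * e)) := by rw [S.ci.sq, one_mul]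
          _ = z * (z * (s * e)) * (s * e) := by group
          _ = z * (s * e * z) * (s * e) := by rw [hzc _ (mul_mem hs he)]
          _ = e * e := by rw [← hsq]; group
    have h3 : s * (e * s) = e := by
      refine mul_right_cancel (b := e) ?_
      calc s * (e * s) * e = s * e * (s * e) := by group
        _ = e * e := hse
    calc s * e = s * (s * (e * s)) := by rw [h3]
      _ = e * s := by rw [← mul_assoc, hs2, one_mul]
  have hgood : ∀ e ∈ E, d * e * d⁻¹ * e⁻¹ = 1 ∨ d * e * d⁻¹ * e⁻¹ = z := by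
    intro e he
    by_contra hc
    push Not at hc
    obtain ⟨f, hf, hfs⟩ := S.ci.exists_swap hs hs1 hsz
    have hfne : s * f ≠ f * s := fun e' => by
      apply S.ci.ne_one
      have : f * s * f⁻¹ = s := by rw [← e', mul_inv_cancel_right]
      rw [this] at hfs
      exact left_eq_mul.1 hfs
    have hf1 : d * f * d⁻¹ * f⁻¹ = 1 ∨ d * f * d⁻¹ * f⁻¹ = z := by
      by_contra hc'
      push Not at hc'
      exact hfne (hbad f hf hc'.1 hc'.2)
    have hes := hbad e he hc.1 hc.2
    set c := d * e * d⁻¹ * e⁻¹ with hcdef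
    have hprod : ∀ u : G, d * f * d⁻¹ * f⁻¹ = u → u * z = z * u → (u = 1 ∨ u = z) →
        d * (f * e) * d⁻¹ * (f * e)⁻¹ = u * (f * c * f⁻¹) := by
      intro u hu _ _
      rw [← hu, hcdef]
      group
    have hz' : ∀ u : G, u = 1 ∨ u = z → u * z = z * u := by rintro u (rfl | rfl) <;> simp
    have hv := hprod _ rfl (hz' _ hf1) hf1
    have hfe : s * (f * e) ≠ f * e * s := fun e' => hfne (by
      rw [← mul_assoc, mul_assoc f e s, ← hes, ← mul_assoc] at e'
      exact mul_right_cancel e')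
    refine hfe (hbad _ (mul_mem hf he) ?_ ?_) <;> intro r <;> rw [hv] at r
    · have : f * c * f⁻¹ = 1 ∨ f * c * f⁻¹ = z := by
        rcases hf1 with q | q <;> rw [q] at r
        · left; simpa using r
        · right; rw [← S.ci.inv_eq]; exact (inv_eq_of_mul_eq_one_right r).symm
      rcases this with q | q
      · exact hc.1 (conj_eq_one_iff.1 q)
      · refine hc.2 (conj_injective (x := f) ?_)
        beta_reduce
        rw [q, S.ci.comm f hf, mul_inv_cancel_right]
    · have : f * c * f⁻¹ = 1 ∨ f * c * f⁻¹ = z := by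
        rcases hf1 with q | q <;> rw [q] at r
        · right; simpa using r
        · left; simpa using r
      rcases this with q | q
      · exact hc.1 (conj_eq_one_iff.1 q)
      · refine hc.2 (conj_injective (x := f) ?_)
        beta_reduce
        rw [q, S.ci.comm f hf, mul_inv_cancel_right]
  exact S.mem_of_commutator_center hd hgood

/-- If `z` is not fused into `E`, no conjugate of `z` has a stabiliser of index two in `E`. -/
theorem orbit_ne_two (S : Setting z E n) (hnf : ∀ g : G, g * z * g⁻¹ ∈ E → g * z * g⁻¹ = z)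
    {q : G ⧸ (Subgroup.centralizer ({z} : Set G))} (hq : q ≠ ((1 : G) : G ⧸ (Subgroup.centralizer ({z} : Set G)))) (hz : z • q = q)
    (hab : ∃ a ∈ E, ∃ b ∈ E, a • q = q ∧ b • q = q ∧ a⁻¹ * b⁻¹ * a * b = z) :
    (orb E q).card ≠ 2 := by
  intro htwo
  obtain ⟨a, ha, b, hb, haq, hbq, habz⟩ := hab
  set x := q.out
  set w := x * z * x⁻¹ with hwdef
  have hwz : z * w = w * z := (smul_eq_self_iff_commute z q).1 hz
  have hne : w ≠ z := fun e => hq (eq_base_of_commute e)
  have hwE : w ∉ E := fun h => hne (hnf x h)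
  set Q := E.map (MulAut.conj x).toMonoidHom
  have hQ : CentralInvolution Q w := S.ci.conj x
  have hQnorm : ∀ c : G, c * w = w * c → ∀ p ∈ Q, c * p * c⁻¹ ∈ Q := by
    rintro c hc _ ⟨e, he, rfl⟩
    have hc' : (x⁻¹ * c * x) * z = z * (x⁻¹ * c * x) := by
      calc x⁻¹ * c * x * z = x⁻¹ * (c * w) * x := by rw [hwdef]; group
        _ = z * (x⁻¹ * c * x) := by rw [hc, hwdef]; group
    refine ⟨_, S.norm _ hc' e he, ?_⟩
    show x * (x⁻¹ * c * x * e * (x⁻¹ * c * x)⁻¹) * x⁻¹ = c * (x * e * x⁻¹) * c⁻¹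
    group
  have hzQ : z ∉ Q := by
    rintro ⟨e, he, h⟩
    have h' : x * e * x⁻¹ = z := h
    have e1 : x⁻¹ * z * x⁻¹⁻¹ = e := by rw [← h']; group
    have h2 : e = z := e1 ▸ hnf x⁻¹ (e1.symm ▸ he)
    exact hne (by rw [hwdef]; rw [h2] at h'; exact h')
  -- the stabiliser C of q in E
  have hfix : ∀ e : G, e • q = q ↔ e * w = w * e := fun e => smul_eq_self_iff_commute e q
  have hidx : ∀ e ∈ E, ∀ f ∈ E, e • q ≠ q → f • q ≠ q → (e⁻¹ * f) • q = q := by
    intro e he f hf h1 h2
    obtain ⟨u, v, huv, hO⟩ := Finset.card_eq_two.1 htwo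
    have m : ∀ g ∈ E, g • q = u ∨ g • q = v := fun g hg => by
      have : g • q ∈ orb E q := mem_orb.2 ⟨g, hg, rfl⟩
      rw [hO] at this
      simpa using this
    have m0 := m 1 (one_mem _)
    rw [one_smul] at m0
    have : e • q = f • q := by
      rcases m e he with r | r <;> rcases m f hf with r' | r' <;> rcases m0 with r0 | r0 <;>
        first
        | exact r.trans r'.symm
        | exact absurd (r.trans r0.symm) h1
        | exact absurd (r'.trans r0.symm) h2
    rw [mul_smul, ← this, inv_smul_smul]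
  have hYQ : ∀ y ∈ E, y ∈ Q → y = 1 := by
    intro y hy hyQ
    have hyw : y * w = w * y := hQ.comm y hyQ
    have hcC : ∀ c ∈ E, c • q = q → c * y = y * c := by
      intro c hc hcq
      refine mul_inv_eq_iff_eq_mul.1 ((S.ci.conj_cases hc hy).resolve_right fun r => hzQ ?_)
      have := mul_mem (inv_mem hyQ) (hQnorm c ((hfix c).1 hcq) y hyQ)
      rwa [r, inv_mul_cancel_left] at this
    have hy2 : y * y = 1 := (S.ci.sq_mem hy).resolve_right fun r => hzQ (r ▸ mul_mem hyQ hyQ)
    by_contra hy1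
    have hyz : y ≠ z := fun r => hzQ (r ▸ hyQ)
    obtain ⟨f, hf, hfy⟩ := S.ci.exists_swap hy hy1 hyz
    have hfne : f * y ≠ y * f := fun r => by
      rw [r, mul_inv_cancel_right] at hfy
      exact S.ci.ne_one (left_eq_mul.1 hfy)
    have hCy : ∀ e ∈ E, e * y = y * e → e • q = q := by
      intro e he hey
      by_contra heq
      refine hfne (?_)
      by_cases hfq : f • q = q
      · exact hcC f hf hfq
      · have := hcC _ (mul_mem (inv_mem he) hf) (hidx e he f hf heq hfq)
        calc f * y = e * (e⁻¹ * f * y) := by group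
          _ = e * (y * (e⁻¹ * f)) := by rw [this]
          _ = y * f := by rw [← mul_assoc, hey]; group
    refine hwE (S.mem_of_commutator_four hwz.symm hy hy1 hyz hy2 fun e he => ?_)
    have hcE : w * e * w⁻¹ * e⁻¹ ∈ E := mul_mem (S.norm w hwz.symm e he) (inv_mem he)
    refine S.ci.of_commute_centralizer hy hy1 hyz hcE fun p hp hpy => ?_
    have hpw := (hfix p).1 (hCy p hp hpy)
    rcases S.ci.conj_cases hp he with r | r
    · refine mul_inv_eq_iff_eq_mul.1 ?_
      calc p * (w * e * w⁻¹ * e⁻¹) * p⁻¹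
          = (p * w) * e * (p * w)⁻¹ * (p * e * p⁻¹)⁻¹ := by group
        _ = w * (p * e * p⁻¹) * w⁻¹ * (p * e * p⁻¹)⁻¹ := by rw [hpw]; group
        _ = w * e * w⁻¹ * e⁻¹ := by rw [r]
    · refine mul_inv_eq_iff_eq_mul.1 ?_
      calc p * (w * e * w⁻¹ * e⁻¹) * p⁻¹
          = (p * w) * e * (p * w)⁻¹ * (p * e * p⁻¹)⁻¹ := by group
        _ = w * (p * e * p⁻¹) * w⁻¹ * (p * e * p⁻¹)⁻¹ := by rw [hpw]; group
        _ = w * (e * z) * w⁻¹ * (e * z)⁻¹ := by rw [r]
        _ = w * e * (z * w⁻¹) * z⁻¹ * e⁻¹ := by group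
        _ = w * e * (w⁻¹ * z) * z⁻¹ * e⁻¹ := by
          rw [show z * w⁻¹ = w⁻¹ * z from by rw [hQ.inv_eq, hwz]]
        _ = w * e * w⁻¹ * e⁻¹ := by group
  -- C centralises the elements of Q commuting with z
  have hCD : ∀ c ∈ E, c • q = q → ∀ d ∈ Q, z * d = d * z → c * d = d * c := by
    intro c hc hcq d hd hzd
    have h1 : c * d * c⁻¹ * d⁻¹ ∈ Q := mul_mem (hQnorm c ((hfix c).1 hcq) d hd) (inv_mem hd)
    have h2 : c * d * c⁻¹ * d⁻¹ ∈ E := by
      rw [mul_assoc c d, mul_assoc]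
      exact mul_mem hc (S.norm d hzd.symm _ (inv_mem hc))
    exact mul_inv_eq_iff_eq_mul.1 (mul_inv_eq_one.1 (hYQ _ h2 h1))
  have hδD : ∀ c ∈ E, c • q = q → ∀ p ∈ Q, ∀ d ∈ Q, z * d = d * z →
      (c * p * c⁻¹ * p⁻¹) * d = d * (c * p * c⁻¹ * p⁻¹) := by
    intro c hc hcq p hp d hd hzd
    have hcd := hCD c hc hcq d hd hzd
    rcases hQ.conj_cases hd hp with r | r
    · have e : d * (c * p * c⁻¹ * p⁻¹) * d⁻¹ = c * p * c⁻¹ * p⁻¹ := by
        calc d * (c * p * c⁻¹ * p⁻¹) * d⁻¹
            = (d * c) * p * (d * c)⁻¹ * (d * p * d⁻¹)⁻¹ := by group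
          _ = c * (d * p * d⁻¹) * c⁻¹ * (d * p * d⁻¹)⁻¹ := by rw [← hcd]; group
          _ = _ := by rw [r]
      exact (mul_inv_eq_iff_eq_mul.1 e).symm
    · have hcw : w * c⁻¹ = c⁻¹ * w := by
        calc w * c⁻¹ = c⁻¹ * (c * w) * c⁻¹ := by group
          _ = c⁻¹ * w := by rw [(hfix c).1 hcq]; group
      have e : d * (c * p * c⁻¹ * p⁻¹) * d⁻¹ = c * p * c⁻¹ * p⁻¹ := by
        calc d * (c * p * c⁻¹ * p⁻¹) * d⁻¹
            = (d * c) * p * (d * c)⁻¹ * (d * p * d⁻¹)⁻¹ := by group
          _ = c * (d * p * d⁻¹) * c⁻¹ * (d * p * d⁻¹)⁻¹ := by rw [← hcd]; group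
          _ = c * p * (w * c⁻¹) * w⁻¹ * p⁻¹ := by rw [r]; group
          _ = c * p * c⁻¹ * p⁻¹ := by rw [hcw]; group
      exact (mul_inv_eq_iff_eq_mul.1 e).symm
  have key : ∀ p ∈ Q, (∀ c ∈ E, c • q = q → z * (c * p * c⁻¹ * p⁻¹) = (c * p * c⁻¹ * p⁻¹) * z) →
      z * p = p * z := by
    intro p hp hD
    set u := a * p * a⁻¹ * p⁻¹ with hu
    set v := b * p * b⁻¹ * p⁻¹ with hv
    have huQ : u ∈ Q := mul_mem (hQnorm a ((hfix a).1 haq) p hp) (inv_mem hp)
    have hvQ : v ∈ Q := mul_mem (hQnorm b ((hfix b).1 hbq) p hp) (inv_mem hp)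
    have hbu : b * u = u * b := hCD b hb hbq u huQ (hD a ha haq)
    have hav : a * v = v * a := hCD a ha haq v hvQ (hD b hb hbq)
    have huv : v * u = u * v := hδD b hb hbq p hp u huQ (hD a ha haq)
    have hpa : a * p = u * p * a := by rw [hu]; group
    have hpb : b * p = v * p * b := by rw [hv]; group
    have h1 : a * b * p = b * a * z * p := by rw [← habz]; group
    have h2 : a * b * p = (u * v) * (p * (a * b)) := by
      calc a * b * p = a * (v * p * b) := by rw [mul_assoc, hpb]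
        _ = (a * v) * p * b := by group
        _ = v * (a * p) * b := by rw [hav]; group
        _ = (v * u) * (p * (a * b)) := by rw [hpa]; group
        _ = _ := by rw [huv]
    have h3 : b * a * p = (u * v) * (p * (b * a)) := by
      calc b * a * p = b * (u * p * a) := by rw [mul_assoc, hpa]
        _ = (b * u) * p * a := by group
        _ = u * (b * p) * a := by rw [hbu]; group
        _ = _ := by rw [hpb]; group
    have h4 : a * b = b * a * z := by rw [← habz]; group
    refine mul_left_cancel (a := b * a) ?_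
    calc b * a * (z * p) = a * b * p := by rw [h1]; group
      _ = (u * v) * (p * (a * b)) := h2
      _ = (u * v) * (p * (b * a)) * z := by rw [h4]; group
      _ = b * a * (p * z) := by rw [← h3]; group
  have hzw : z * w * z⁻¹ = w := by rw [hwz, mul_inv_cancel_right]
  -- no element is moved to its product with w
  have hP : ∀ p ∈ Q, z * p * z⁻¹ ≠ p * w := by
    intro p hp hpw
    have hzp : z * p = p * z := by
      refine key p hp fun c hc hcq => ?_
      have hzc : z * c = c * z := (S.ci.comm c hc).symm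
      have hcw := (hfix c).1 hcq
      refine mul_inv_eq_iff_eq_mul.1 ?_
      calc z * (c * p * c⁻¹ * p⁻¹) * z⁻¹
          = (z * c) * p * (z * c)⁻¹ * (z * p * z⁻¹)⁻¹ := by group
        _ = c * (z * p * z⁻¹) * c⁻¹ * (z * p * z⁻¹)⁻¹ := by rw [hzc]; group
        _ = c * p * (w * c⁻¹) * w⁻¹ * p⁻¹ := by rw [hpw]; group
        _ = c * p * c⁻¹ * p⁻¹ := by
          rw [show w * c⁻¹ = c⁻¹ * w from by
            calc w * c⁻¹ = c⁻¹ * (c * w) * c⁻¹ := by group
              _ = c⁻¹ * w := by rw [hcw]; group]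
          group
    rw [hzp, mul_inv_cancel_right] at hpw
    exact hQ.ne_one (left_eq_mul.1 hpw)
  have hc : ∀ r ∈ Q, z * (z * r * z⁻¹ * r⁻¹) = (z * r * z⁻¹ * r⁻¹) * z := by
    intro r hr
    set c := z * r * z⁻¹ * r⁻¹ with hcdef
    have hcQ : c ∈ Q := mul_mem (hQnorm z hwz r hr) (inv_mem hr)
    have h1 : z * c * z⁻¹ = c⁻¹ := by
      calc z * c * z⁻¹ = (z * z) * r * z⁻¹ * r⁻¹ * z⁻¹ := by rw [hcdef]; group
        _ = r * z * r⁻¹ * z⁻¹ := by rw [S.ci.sq, S.ci.inv_eq]; group
        _ = c⁻¹ := by rw [hcdef]; group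
    rcases hQ.sq_mem hcQ with e | e
    · exact mul_inv_eq_iff_eq_mul.1 (h1.trans (inv_eq_of_mul_eq_one_right e))
    · exfalso
      refine hP c hcQ (h1.trans ?_)
      rw [inv_eq_iff_mul_eq_one, ← mul_assoc, e, hQ.sq]
  have hall : ∀ p ∈ Q, z * p = p * z := by
    intro p hp
    refine key p hp fun c hcE hcq => ?_
    set δ := c * p * c⁻¹ * p⁻¹ with hδ
    have hδQ : δ ∈ Q := mul_mem (hQnorm c ((hfix c).1 hcq) p hp) (inv_mem hp)
    -- z δ z⁻¹ δ⁻¹ is central in Q
    have hcentral : ∀ r ∈ Q, r * (z * δ * z⁻¹ * δ⁻¹) = (z * δ * z⁻¹ * δ⁻¹) * r := by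
      intro r hr
      set k := z * r * z⁻¹ * r⁻¹ with hk
      have hkQ : k ∈ Q := mul_mem (hQnorm z hwz r hr) (inv_mem hr)
      have hkδ : δ * k = k * δ := hδD c hcE hcq p hp k hkQ (hc r hr)
      have hzkz : z * k * z⁻¹ = k := mul_inv_eq_iff_eq_mul.2 (hc r hr)
      have hkzδ : (z * δ * z⁻¹) * k = k * (z * δ * z⁻¹) := by
        calc (z * δ * z⁻¹) * k = (z * δ * z⁻¹) * (z * k * z⁻¹) := by rw [hzkz]
          _ = z * (δ * k) * z⁻¹ := by group
          _ = (z * k * z⁻¹) * (z * δ * z⁻¹) := by rw [hkδ]; group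
          _ = _ := by rw [hzkz]
      have hr' : r = k⁻¹ * (z * r * z⁻¹) := by rw [hk]; group
      have e1 : r * (z * δ * z⁻¹) * r⁻¹ = z * (r * δ * r⁻¹) * z⁻¹ := by
        calc r * (z * δ * z⁻¹) * r⁻¹
            = k⁻¹ * ((z * r * z⁻¹) * (z * δ * z⁻¹) * (z * r * z⁻¹)⁻¹) * k := by
              conv_lhs => rw [hr']
              group
          _ = k⁻¹ * (z * (r * δ * r⁻¹) * z⁻¹) * k := by group
          _ = z * (r * δ * r⁻¹) * z⁻¹ := by
              rcases hQ.conj_cases hr hδQ with e | e <;> rw [e]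
              · rw [mul_assoc, hkzδ, inv_mul_cancel_left]
              · have : z * (δ * w) * z⁻¹ * k = k * (z * (δ * w) * z⁻¹) := by
                  rw [show z * (δ * w) * z⁻¹ = (z * δ * z⁻¹) * (z * w * z⁻¹) by group, hzw, mul_assoc,
                    ← hQ.comm k hkQ, ← mul_assoc, hkzδ, mul_assoc]
                rw [mul_assoc, this, inv_mul_cancel_left]
      refine mul_inv_eq_iff_eq_mul.1 ?_
      calc r * (z * δ * z⁻¹ * δ⁻¹) * r⁻¹
          = (r * (z * δ * z⁻¹) * r⁻¹) * (r * δ * r⁻¹)⁻¹ := by group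
        _ = z * (r * δ * r⁻¹) * z⁻¹ * (r * δ * r⁻¹)⁻¹ := by rw [e1]
        _ = z * δ * z⁻¹ * δ⁻¹ := by
            rcases hQ.conj_cases hr hδQ with e | e <;> rw [e]
            calc z * (δ * w) * z⁻¹ * (δ * w)⁻¹ = z * δ * z⁻¹ * (z * w * z⁻¹) * w⁻¹ * δ⁻¹ := by group
              _ = _ := by rw [hzw]; group
    rcases hQ.of_central _ (mul_mem (hQnorm z hwz δ hδQ) (inv_mem hδQ)) hcentral with e | e
    · exact mul_inv_eq_iff_eq_mul.1 (mul_inv_eq_one.1 e)
    · exact absurd ((mul_inv_eq_iff_eq_mul.1 e).trans (hQ.comm δ hδQ).symm) (hP δ hδQ)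
  refine hzQ ?_
  have hxz : x⁻¹ * z * x ∈ Subgroup.centralizer (E : Set G) := by
    intro e he
    have h := hall _ (⟨e, he, rfl⟩ : (MulAut.conj x) e ∈ Q)
    simp only [MulAut.conj_apply] at h
    calc e * (x⁻¹ * z * x) = x⁻¹ * ((x * e * x⁻¹) * z) * x := by group
      _ = _ := by rw [← h]; group
  refine ⟨x⁻¹ * z * x, S.self hxz, ?_⟩
  show x * (x⁻¹ * z * x) * x⁻¹ = z
  group

end Setting

end Cfsg.Agent.LargeExtra

namespace Cfsg.Agent.LargeExtra.Setting

open Cfsg Tr
open scoped Classical commutatorElement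

variable {G : Type*} [Group G] [Finite G] {z : G} {E : Subgroup G} {n : ℕ} {A : Type*} [CommGroup A]

theorem coc_center_eq_one (μ : (Subgroup.centralizer ({z} : Set G)) →* A) {a b : G}
    {q : G ⧸ (Subgroup.centralizer ({z} : Set G))} (ha : a • q = q) (hb : b • q = q)
    (hab : a⁻¹ * b⁻¹ * a * b = z) : coc μ z q = 1 := by
  have := coc_commutator μ ha hb
  rwa [hab] at this

theorem index_two_hom {H : Type*} [Group H] {K : Subgroup H} (hK : K.index = 2) :
    ∃ μ : H →* Multiplicative (ZMod 2), ∀ h, μ h = 1 ↔ h ∈ K := by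
  have h1 : ∀ x : ZMod 2, x + x = 0 := by decide
  refine ⟨{ toFun := fun h => if h ∈ K then 1 else Multiplicative.ofAdd 1
            map_one' := by simp
            map_mul' := fun a b => ?_ }, fun h => ?_⟩
  · have := Subgroup.mul_mem_iff_of_index_two hK (a := a) (b := b)
    by_cases ha : a ∈ K <;> by_cases hb : b ∈ K <;> simp only [ha, hb] at this <;> simp [ha, hb, this]
    rfl
  · show (if h ∈ K then (1 : Multiplicative (ZMod 2)) else Multiplicative.ofAdd 1) = 1 ↔ h ∈ K
    split_ifs with hh <;> simp [hh]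

theorem mul_self_multiplicative : ∀ a : Multiplicative (ZMod 2), a * a = 1 := by decide

/-- An involution of `E` has trivial value. -/
theorem involution_value (S : Setting z E n) (hn : 2 ≤ n) (hres : Cfsg.pResidual 2 G = ⊤)
    (μ : (Subgroup.centralizer ({z} : Set G)) →* A) (hA : ∀ a : A, a * a = 1) {t : G} (ht : t ∈ E)
    (ht2 : t * t = 1) : μ ⟨t, S.le_CH ht⟩ = 1 := by
  haveI : Fact (Nat.Prime 2) := ⟨Nat.prime_two⟩
  obtain ⟨k, hk⟩ := IsPGroup.iff_orderOf.1 S.ci.isPGroup ⟨t, ht⟩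
  refine S.value_eq_one hres μ hA (S.le_CH ht) ⟨k, by rw [← hk]; exact (Subgroup.orderOf_mk t ht).symm⟩
    fun q hq hzq => ?_
  rw [sup_eq_left.2 (Subgroup.zpowers_le.2 ht)]
  have hM : Normal2 E E z :=
    { two := S.ci.isPGroup
      le := le_rfl
      norm := fun m hm e he => mul_mem (mul_mem hm he) (inv_mem hm)
      central := fun m hm => (S.ci.comm m hm).symm
      zmem := S.ci.mem
      sq := fun e he => S.ci.sq_mem he
      comm := S.comm_cases }
  obtain ⟨e', he', hne'⟩ := S.exists_moved hq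
  have hne : stab E q ≠ E := fun h => hne' (mem_stab.1 (h.symm ▸ he' : e' ∈ stab E q)).2
  obtain ⟨M₁, hL₁, hle₁, hidx₁⟩ := exists_index_two hM.two inf_le_left hne
  obtain ⟨hn₁, hi₁⟩ := index_two_facts hle₁ hidx₁
  have hstab : ∀ m ∈ E, m • q = q → m ∈ M₁ := fun m hm h => hL₁ (mem_stab.2 ⟨hm, h⟩)
  by_cases ht1 : t ∈ M₁
  · obtain ⟨e, he, hne1⟩ : ∃ e ∈ E, e ∉ M₁ := by
      by_contra h
      push Not at h
      rw [Subgroup.relIndex_eq_one.2 h] at hidx₁
      omega
    have hc : e⁻¹ * t * e ∈ M₁ := by simpa using hn₁ e⁻¹ (inv_mem he) t ht1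
    rw [(F_step μ hle₁ hn₁ hstab he hne1 (hi₁ e he hne1)).1 t ht1, ← F_inv μ hA ht1,
      ← F_mul_orb μ _ hc]
    have hcc : t⁻¹ * (e⁻¹ * t * e) = 1 ∨ t⁻¹ * (e⁻¹ * t * e) = z := by
      simpa only [mul_assoc] using S.comm_cases t ht e he
    rcases hcc with h | h <;> rw [h]
    · exact F_one μ _
    rw [F_central μ (fun m hm => hM.central m (hle₁ hm)) hzq]
    have hpow : ∀ (a : A) (i : ℕ), Even i → a ^ i = 1 := by
      rintro a _ ⟨j, rfl⟩
      rw [pow_add, hA]
    have hc1 := orb_card_split hle₁ hidx₁ hL₁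
    rcases Nat.lt_or_ge (orb M₁ q).card 2 with hlt | hge
    · rcases S.orbit_cases hq with h2 | ⟨⟨a, -, b, -, ha, hb, hab⟩, -⟩
      · have : 4 ≤ 2 ^ n := le_trans (by norm_num) (Nat.pow_le_pow_right (by norm_num : 0 < 2) hn)
        omega
      · rw [coc_center_eq_one μ ha hb hab, one_pow]
    · have hne2 : stab M₁ q ≠ M₁ := fun h' => by have := stab_eq_self_iff.1 h'; omega
      obtain ⟨M₂, hL₂, hle₂, hidx₂⟩ := exists_index_two (hM.two.to_le hle₁) inf_le_left hne2
      exact hpow _ _ (by rw [orb_card_split hle₂ hidx₂ hL₂]; exact even_two_mul _)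
  · rw [(F_step μ hle₁ hn₁ hstab ht ht1 (hi₁ t ht ht1)).2, ht2]
    exact F_one μ _

/-- The values on `E` are trivial. -/
theorem le_index_two (S : Setting z E n) (hn : 2 ≤ n) (hres : Cfsg.pResidual 2 G = ⊤) (K : Subgroup G)
    (hKi : K.relIndex (Subgroup.centralizer ({z} : Set G)) = 2) : E ≤ K := by
  haveI : Fact (Nat.Prime 2) := ⟨Nat.prime_two⟩
  obtain ⟨μ, hμ⟩ := index_two_hom (H := ↥(Subgroup.centralizer ({z} : Set G))) hKi
  have hinv : ∀ t ∈ E, t * t = 1 → t ∈ K := fun t ht ht2 =>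
    (hμ _).1 (S.involution_value hn hres μ mul_self_multiplicative ht ht2)
  intro f hf
  by_contra hfK
  have hmul : ∀ a ∈ E, ∀ b ∈ E, (a * b ∈ K ↔ (a ∈ K ↔ b ∈ K)) := fun a ha b hb =>
    Subgroup.mul_mem_iff_of_index_two (H := K.subgroupOf (Subgroup.centralizer ({z} : Set G))) hKi
      (a := ⟨a, S.le_CH ha⟩) (b := ⟨b, S.le_CH hb⟩)
  have hf2 : f * f = z := (S.ci.sq_mem hf).resolve_left fun h => hfK (hinv f hf h)
  -- the part of the centraliser of f inside K has exponent two
  have hexp : ∀ a ∈ E, a * f = f * a → a ∈ K → a * a = 1 := by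
    intro a ha haf haK
    rcases S.ci.sq_mem ha with h | h
    · exact h
    · exfalso
      have h1 : a * f * (a * f) = 1 := by
        calc a * f * (a * f) = a * (f * a) * f := by group
          _ = a * a * (f * f) := by rw [← haf]; group
          _ = 1 := by rw [h, hf2, S.ci.sq]
      exact hfK (((hmul a ha f hf).1 (hinv _ (mul_mem ha hf) h1)).1 haK)
  have hfc : (⟨f, hf⟩ : ↥E) ∉ Subgroup.center ↥E := fun hc => by
    rcases S.ci.eq_of_mem hc with h | h
    · exact hfK (by rw [show f = 1 from h]; exact one_mem K)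
    · exact hfK (hinv f hf (by rw [show f = z from h]; exact S.ci.sq))
  have hidx := Cfsg.Agent.PGroup.extraspecial_index_centralizer S.ci.extra hfc
  set C := Subgroup.centralizer ({(⟨f, hf⟩ : ↥E)} : Set ↥E)
  have hC : IsMulCommutative ↥C := by
    have hcomm : ∀ x : C, ((x : ↥E) : G) * f = f * ((x : ↥E) : G) := fun x =>
      congrArg Subtype.val (Subgroup.mem_centralizer_singleton_iff.1 x.2)
    have hdec : ∀ x : C, ∃ a ∈ E, a * f = f * a ∧ a ∈ K ∧ (((x : ↥E) : G) = a ∨ ((x : ↥E) : G) = a * f) := by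
      intro x
      by_cases hx : ((x : ↥E) : G) ∈ K
      · exact ⟨_, x.1.2, hcomm x, hx, Or.inl rfl⟩
      · refine ⟨((x : ↥E) : G) * f⁻¹, mul_mem x.1.2 (inv_mem hf), ?_,
          (hmul _ x.1.2 _ (inv_mem hf)).2 (iff_of_false hx fun h => hfK (inv_mem_iff.1 h)), Or.inr (by group)⟩
        have hc : Commute ((x : ↥E) : G) f := hcomm x
        exact (hc.mul_left (Commute.refl f).inv_left).eq
    refine ⟨⟨fun x y => Subtype.ext (Subtype.ext ?_)⟩⟩
    obtain ⟨a, ha, haf, haK, hxa⟩ := hdec x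
    obtain ⟨b, hb, hbf, hbK, hyb⟩ := hdec y
    have hab : a * b = b * a := by
      have h1 := hexp a ha haf haK
      have h2 := hexp b hb hbf hbK
      have h3 := hexp (a * b) (mul_mem ha hb) (by rw [mul_assoc, hbf, ← mul_assoc, haf, mul_assoc]) (mul_mem haK hbK)
      calc a * b = (a * b)⁻¹ := (inv_eq_of_mul_eq_one_right h3).symm
        _ = b⁻¹ * a⁻¹ := mul_inv_rev a b
        _ = b * a := by rw [inv_eq_of_mul_eq_one_right h1, inv_eq_of_mul_eq_one_right h2]
    show ((x : ↥E) : G) * ((y : ↥E) : G) = ((y : ↥E) : G) * ((x : ↥E) : G)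
    have cab : Commute a b := hab
    have caf : Commute a f := haf
    have cbf : Commute b f := hbf
    rcases hxa with e | e <;> rcases hyb with e' | e' <;> rw [e, e']
    · exact cab
    · exact cab.mul_right caf
    · exact cab.mul_left cbf.symm
    · exact (cab.mul_left cbf.symm).mul_right (caf.mul_left (Commute.refl f))
  have h1 := Cfsg.Agent.PGroup.extraspecial_card_abelian_le S.ci.extra S.card hC
  have h2 := Subgroup.card_mul_index C
  rw [hidx, S.card, pow_succ] at h2
  have h3 : 2 ^ (n + 1) < 2 ^ (2 * n) := Nat.pow_lt_pow_right (by norm_num) (by omega)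
  omega

/-- A non-fused involution with width at least three: no homomorphism to an elementary abelian 2-group. -/
theorem hom_eq_one_of_not_fused (S : Setting z E n) (hn : 3 ≤ n) (hres : Cfsg.pResidual 2 G = ⊤)
    (hnf : ∀ g : G, g * z * g⁻¹ ∈ E → g * z * g⁻¹ = z)
    (μ : (Subgroup.centralizer ({z} : Set G)) →* A) (hA : ∀ a : A, a * a = 1) : μ = 1 := by
  refine S.hom_eq_one hres μ hA fun q hq hzq => ?_
  rcases S.orbit_cases hq with h | ⟨hc, h | h⟩
  · exact Or.inr (Or.inr (le_trans (le_trans (by norm_num) (Nat.pow_le_pow_right (by norm_num : 0 < 2) hn)) h))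
  · exact absurd h (S.orbit_ne_two hnf hq hzq hc)
  · obtain ⟨a, -, b, -, ha, hb, hab⟩ := hc
    exact Or.inr (Or.inl ⟨h, coc_center_eq_one μ ha hb hab⟩)

/-- The squares in the abelianisation of the centraliser are fourth powers. -/
theorem sq_eq_pow_four (S : Setting z E n) (hn : 2 ≤ n) (hres : Cfsg.pResidual 2 G = ⊤)
    (x : Abelianization ↥(Subgroup.centralizer ({z} : Set G))) :
    ∃ r : Abelianization ↥(Subgroup.centralizer ({z} : Set G)), x ^ 2 = r ^ 4 := by
  let T := Abelianization ↥(Subgroup.centralizer ({z} : Set G))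
  let sq : T →* T := powMonoidHom 2
  let J : Subgroup T := sq.ker ⊔ sq.range
  let π : T →* T ⧸ J := QuotientGroup.mk' J
  have hA : ∀ a : T ⧸ J, a * a = 1 := by
    intro a
    obtain ⟨y, rfl⟩ := QuotientGroup.mk_surjective a
    rw [← QuotientGroup.mk_mul, QuotientGroup.eq_one_iff]
    exact le_sup_right (a := sq.ker) ⟨y, pow_two y⟩
  have hμ : π.comp Abelianization.of = 1 := by
    refine S.hom_eq_one hres _ hA fun q hq hzq => ?_
    have hsq : ∀ e : G, e • q = q → ∀ c : G, c • q = q → e * e = c → coc Abelianization.of c q = 1 →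
        coc (π.comp Abelianization.of) e q = 1 := by
      intro e he c hc hec h1
      show π (coc Abelianization.of e q) = 1
      rw [QuotientGroup.mk'_apply, QuotientGroup.eq_one_iff]
      refine le_sup_left (b := sq.range) ?_
      show coc Abelianization.of e q ^ 2 = 1
      have := coc_mul Abelianization.of e e q
      rw [hec, h1, he] at this
      rw [pow_two, ← this]
    have hz1 : coc (π.comp Abelianization.of) z q = 1 :=
      hsq z hzq 1 (one_smul _ _) S.ci.sq (coc_one _ _)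
    rcases S.orbit_cases hq with h | ⟨⟨a, -, b, -, ha, hb, hab⟩, h | h⟩
    · exact Or.inr (Or.inl ⟨le_trans (le_trans (by norm_num) (Nat.pow_le_pow_right (by norm_num : 0 < 2) hn)) h, hz1⟩)
    · refine Or.inl fun e he hfix => ?_
      rcases S.ci.sq_mem he with h2 | h2
      · exact hsq e hfix 1 (one_smul _ _) h2 (coc_one _ _)
      · exact hsq e hfix z hzq h2 (coc_center_eq_one _ ha hb hab)
    · exact Or.inr (Or.inl ⟨h, hz1⟩)
  have hJ : x ∈ J := by
    obtain ⟨h, rfl⟩ : ∃ h, Abelianization.of h = x := QuotientGroup.mk_surjective x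
    exact (QuotientGroup.eq_one_iff (Abelianization.of h)).1 (DFunLike.congr_fun hμ h)
  obtain ⟨u, hu, v, ⟨r, hr⟩, huv⟩ := Subgroup.mem_sup.1 hJ
  refine ⟨r, ?_⟩
  rw [← huv, mul_pow, show u ^ 2 = 1 from hu, one_mul, ← show r ^ 2 = v from hr, ← pow_mul]

/-- For width one the abelianisation has elementary abelian 2-part. -/
theorem abelianization_width_one (S : Setting z E 1)
    (hcore : ∀ N : Subgroup ↥(Subgroup.centralizer ({z} : Set G)), N.Normal → IsPGroup 2 N →
      ∀ x ∈ N, (x : G) ∈ E)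
    (x : Abelianization ↥(Subgroup.centralizer ({z} : Set G))) (hx : ∃ k : ℕ, orderOf x = 2 ^ k) :
    x ^ 2 = 1 := by
  haveI : Fact (Nat.Prime 2) := ⟨Nat.prime_two⟩
  let H := Subgroup.centralizer ({z} : Set G)
  obtain ⟨h, rfl⟩ : ∃ h : H, Abelianization.of h = x := QuotientGroup.mk_surjective x
  have hHz : ∀ g : H, (g : G) * z = z * g := fun g => Subgroup.mem_centralizer_singleton_iff.1 g.2
  let act : H →* MulAut ↥E :=
    { toFun := fun g =>
        { toFun := fun e => ⟨g * e * (g : G)⁻¹, S.norm g (hHz g) e e.2⟩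
          invFun := fun e => ⟨((g⁻¹ : H) : G) * e * ((g⁻¹ : H) : G)⁻¹, S.norm _ (hHz g⁻¹) e e.2⟩
          left_inv := fun e => Subtype.ext (by simp [mul_assoc])
          right_inv := fun e => Subtype.ext (by simp [mul_assoc])
          map_mul' := fun a b => Subtype.ext (by simp [mul_assoc]) }
      map_one' := by ext e; simp
      map_mul' := fun a b => by ext e; simp [mul_assoc] }
  let Z := Subgroup.center ↥E
  have hcard : Nat.card (↥E ⧸ Z) = 4 := by
    have h1 := Subgroup.card_mul_index Z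
    rw [S.ci.extra.2, S.card, Subgroup.index_eq_card] at h1
    omega
  let perm : H →* Equiv.Perm (↥E ⧸ Z) :=
    { toFun := fun g => (QuotientGroup.congr Z Z (act g) (Subgroup.characteristic_iff_map_eq.1
          inferInstance (act g))).toEquiv
      map_one' := by
        refine Equiv.ext fun a => QuotientGroup.induction_on a fun e => ?_
        simp
      map_mul' := fun a b => by
        refine Equiv.ext fun c => QuotientGroup.induction_on c fun e => ?_
        show ((act (a * b) e : ↥E) : ↥E ⧸ Z) = ((act a (act b e) : ↥E) : ↥E ⧸ Z)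
        rw [map_mul]
        rfl }
  have hperm : ∀ (g : H) (e : ↥E), perm g (e : ↥E ⧸ Z) = ((act g e : ↥E) : ↥E ⧸ Z) := fun g e => rfl
  have hker : ∀ g : H, perm g = 1 → (g : G) ∈ E := by
    intro g hg
    refine S.mem_of_commutator_center (hHz g) fun e he => ?_
    have h1 := Equiv.congr_fun hg ((⟨e, he⟩ : ↥E) : ↥E ⧸ Z)
    rw [hperm, Equiv.Perm.one_apply, eq_comm, QuotientGroup.eq] at h1
    rcases S.ci.eq_of_mem h1 with r | r
    · left
      have r' : (e : G)⁻¹ * ((g : G) * e * (g : G)⁻¹) = 1 := r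
      rw [inv_mul_eq_one] at r'
      rw [← r', mul_inv_cancel]
    · right
      have r' : (e : G)⁻¹ * ((g : G) * e * (g : G)⁻¹) = z := r
      rw [inv_mul_eq_iff_eq_mul] at r'
      rw [r', S.ci.comm e he, mul_inv_cancel_right]
  have hfix1 : ∀ g : H, perm g 1 = 1 := fun g => by
    have := hperm g 1
    simpa using this
  -- sixth powers lie in E
  have hsix : ∀ g : H, ((g ^ 6 : H) : G) ∈ E := by
    intro g
    refine hker _ ?_
    haveI : Fintype (↥E ⧸ Z) := Fintype.ofFinite _
    have hmem : ∀ a : ↥E ⧸ Z, a ≠ 1 ↔ perm g a ≠ 1 := fun a =>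
      ⟨fun ha e => ha ((perm g).injective (e.trans (hfix1 g).symm)),
        fun ha e => ha (e ▸ hfix1 g)⟩
    have h6 : ((perm g).subtypePerm (p := fun a => a ≠ 1) (fun a => (hmem a).symm)) ^ 6 = 1 := by
      have hc : Fintype.card {a : ↥E ⧸ Z // a ≠ 1} = 3 := by
        rw [Fintype.card_subtype_compl, Fintype.card_subtype_eq, ← Nat.card_eq_fintype_card, hcard]
      have := pow_card_eq_one (x := (perm g).subtypePerm (p := fun a => a ≠ 1) (fun a => (hmem a).symm))
      rwa [Fintype.card_perm, hc] at this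
    rw [map_pow]
    refine Equiv.ext fun a => ?_
    by_cases ha : a = 1
    · subst ha
      rw [← map_pow, hfix1, Equiv.Perm.one_apply]
    · have := congrArg (fun π => ((π ⟨a, ha⟩ : {a : ↥E ⧸ Z // a ≠ 1}) : ↥E ⧸ Z)) h6
      simpa [Equiv.Perm.subtypePerm_pow] using this
  have hcommz : ∀ (a b : H), (b : G)⁻¹ * (a : G)⁻¹ * b * a = z → ∀ c : H, (c : G) = z →
      Abelianization.of c = 1 := by
    intro a b hab c hc
    have : c = b⁻¹ * a⁻¹ * b * a := Subtype.ext (by rw [hc, ← hab]; simp)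
    rw [this, map_mul, map_mul, map_mul, map_inv, map_inv]
    simp [mul_comm, mul_left_comm]
  obtain ⟨f, hf, hfne⟩ : ∃ f ∈ E, f ≠ 1 ∧ f ≠ z := by
    by_contra hc
    push Not at hc
    apply Cfsg.Agent.PGroup.extraspecial_not_comm S.ci.extra
    refine ⟨⟨fun a b => Subtype.ext ?_⟩⟩
    by_cases ha : (a : G) = 1
    · simp [ha]
    · show (a : G) * b = b * a
      rw [hc a a.2 ha, S.ci.comm b b.2]
  obtain ⟨y, hy, hyf⟩ := S.ci.exists_swap hf hfne.1 hfne.2
  have hz1 : ∀ c : H, (c : G) = z → Abelianization.of c = 1 := by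
    refine hcommz ⟨y, S.le_CH hy⟩⁻¹ ⟨f, S.le_CH hf⟩ ?_
    show f⁻¹ * y⁻¹⁻¹ * f * y⁻¹ = z
    rw [inv_inv, mul_assoc f⁻¹ y f, mul_assoc, hyf, inv_mul_cancel_left]
  have hsqE : ∀ c : H, (c : G) ∈ E → Abelianization.of c ^ 2 = 1 := by
    intro c hc
    rw [← map_pow]
    rcases S.ci.sq_mem hc with r | r
    · rw [show c ^ 2 = 1 from Subtype.ext (by rw [pow_two]; exact r), map_one]
    · exact hz1 _ (by rw [pow_two]; exact r)
  by_cases hsq : ∀ g : H, ((g ^ 2 : H) : G) ∈ E
  · -- a 2-group is its own 2-core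
    refine hsqE h ?_
    refine hcore ⊤ inferInstance ?_ h (Subgroup.mem_top h)
    refine IsPGroup.of_equiv (fun g : H => ?_) Subgroup.topEquiv.symm
    obtain ⟨k, hk⟩ := S.ci.isPGroup ⟨((g ^ 2 : H) : G), hsq g⟩
    refine ⟨k + 1, Subtype.ext ?_⟩
    have hk' := congrArg Subtype.val hk
    rw [pow_succ', pow_mul]
    simpa using hk'
  push Not at hsq
  obtain ⟨g, hg⟩ := hsq
  set k := g ^ 2 with hk
  have hk3 : ((k ^ 3 : H) : G) ∈ E := by
    rw [hk, ← pow_mul]
    exact hsix g
  have hkfix : ∀ a : ↥E ⧸ Z, perm k a = a → a = 1 := by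
    intro a ha
    by_contra hne
    refine hg (hker k (Equiv.ext fun b => ?_))
    rw [Equiv.Perm.one_apply]
    by_contra hb
    haveI : Fintype (↥E ⧸ Z) := Fintype.ofFinite _
    have hk3' : perm k (perm k (perm k b)) = b := by
      obtain ⟨e, rfl⟩ := QuotientGroup.mk_surjective b
      have h3 : perm (k ^ 3) (e : ↥E ⧸ Z) = (e : ↥E ⧸ Z) := by
        rw [hperm, eq_comm, QuotientGroup.eq, show Z = Subgroup.center ↥E from rfl, ← S.ci.extra.1.2.2]
        have : act (k ^ 3) e = (⟨_, hk3⟩ : ↥E) * e * (⟨_, hk3⟩ : ↥E)⁻¹ := Subtype.ext rfl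
        rw [this, show e⁻¹ * (⟨_, hk3⟩ * e * (⟨_, hk3⟩ : ↥E)⁻¹) = ⁅e⁻¹, (⟨_, hk3⟩ : ↥E)⁆ by
          rw [commutatorElement_def]; group]
        exact Subgroup.commutator_mem_commutator (Subgroup.mem_top _) (Subgroup.mem_top _)
      rw [map_pow, pow_succ, pow_two, Equiv.Perm.mul_apply, Equiv.Perm.mul_apply] at h3
      exact h3
    have hb2 : perm k (perm k b) ≠ b := fun e => hb (by rw [e] at hk3'; exact hk3')
    have hb1 : perm k (perm k b) ≠ perm k b := fun e => hb ((perm k).injective e)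
    have hbne : b ≠ 1 := fun e => hb (e ▸ hfix1 k)
    have hne_of : ∀ c : ↥E ⧸ Z, perm k c = c → c ≠ b ∧ c ≠ perm k b ∧ c ≠ perm k (perm k b) :=
      fun c hc => ⟨fun e => hb (e ▸ hc), fun e => hb1 (e ▸ hc),
        fun e => hb2 (by rw [e, hk3'] at hc; exact hc.symm)⟩
    obtain ⟨a1, a2, a3⟩ := hne_of a ha
    obtain ⟨o1, o2, o3⟩ := hne_of 1 (hfix1 k)
    have h5 : ({1, a, b, perm k b, perm k (perm k b)} : Finset (↥E ⧸ Z)).card = 5 := by
      rw [Finset.card_insert_of_notMem, Finset.card_insert_of_notMem, Finset.card_insert_of_notMem,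
        Finset.card_insert_of_notMem, Finset.card_singleton] <;>
        simp [Ne.symm hne, a1, a2, a3, o1, o2, o3, Ne.symm hb, hb1.symm, hb2.symm]
    have := Finset.card_le_univ ({1, a, b, perm k b, perm k (perm k b)} : Finset (↥E ⧸ Z))
    rw [← Nat.card_eq_fintype_card, hcard] at this
    omega
  -- the image of E vanishes
  have hE1 : ∀ c : H, (c : G) ∈ E → Abelianization.of c = 1 := by
    intro c hc
    let ke : ↥E := act k ⟨c, hc⟩
    let kke : ↥E := act k ke
    set u : ↥E := ⟨c, hc⟩ * ke * kke with hu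
    have hcomm : ∀ a b : ↥E ⧸ Z, a * b = b * a := fun a b => QuotientGroup.induction_on a fun x =>
      QuotientGroup.induction_on b fun y => by
        rw [← QuotientGroup.mk_mul, ← QuotientGroup.mk_mul, QuotientGroup.eq, show Z = Subgroup.center ↥E from rfl, ← S.ci.extra.1.2.2,
          show (x * y)⁻¹ * (y * x) = ⁅y⁻¹, x⁻¹⁆ by rw [commutatorElement_def]; group]
        exact Subgroup.commutator_mem_commutator (Subgroup.mem_top _) (Subgroup.mem_top _)
    have hu1 : (u : ↥E ⧸ Z) = 1 := by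
      refine hkfix _ ?_
      rw [hperm, hu]
      have h3 : ((act k kke : ↥E) : ↥E ⧸ Z) = ((⟨c, hc⟩ : ↥E) : ↥E ⧸ Z) := by
        rw [eq_comm, QuotientGroup.eq, show Z = Subgroup.center ↥E from rfl, ← S.ci.extra.1.2.2]
        have : act k kke = (⟨_, hk3⟩ : ↥E) * ⟨c, hc⟩ * (⟨_, hk3⟩ : ↥E)⁻¹ := Subtype.ext (by
          show (k : G) * ((k : G) * ((k : G) * c * (k : G)⁻¹) * (k : G)⁻¹) * (k : G)⁻¹ =
            ((k ^ 3 : H) : G) * c * ((k ^ 3 : H) : G)⁻¹
          simp only [pow_succ, pow_zero, one_mul, Subgroup.coe_mul]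
          group)
        rw [this, show (⟨c, hc⟩ : ↥E)⁻¹ * (⟨_, hk3⟩ * ⟨c, hc⟩ * (⟨_, hk3⟩ : ↥E)⁻¹) =
          ⁅(⟨c, hc⟩ : ↥E)⁻¹, (⟨_, hk3⟩ : ↥E)⁆ by rw [commutatorElement_def]; group]
        exact Subgroup.commutator_mem_commutator (Subgroup.mem_top _) (Subgroup.mem_top _)
      rw [map_mul, map_mul, QuotientGroup.mk_mul, QuotientGroup.mk_mul, h3, QuotientGroup.mk_mul,
        QuotientGroup.mk_mul, hcomm, mul_assoc]
    have hu' := S.ci.eq_of_mem ((QuotientGroup.eq_one_iff u).1 hu1)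
    have e1 : Abelianization.of ((k * c * k⁻¹ : H)) = Abelianization.of c := by
      rw [map_mul, map_mul, map_inv, mul_comm (Abelianization.of k), mul_inv_cancel_right]
    have e2 : Abelianization.of ((k * (k * c * k⁻¹) * k⁻¹ : H)) = Abelianization.of c := by
      rw [map_mul, map_mul, map_inv, mul_comm (Abelianization.of k), mul_inv_cancel_right, e1]
    have h3 : Abelianization.of c ^ 3 = 1 := by
      have hprod : Abelianization.of (c * (k * c * k⁻¹) * (k * (k * c * k⁻¹) * k⁻¹)) =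
          Abelianization.of c ^ 3 := by rw [map_mul, map_mul, e2, e1, pow_three, mul_assoc]
      rw [← hprod]
      rcases hu' with r | r
      · rw [show c * (k * c * k⁻¹) * (k * (k * c * k⁻¹) * k⁻¹) = 1 from Subtype.ext r, map_one]
      · exact hz1 _ r
    have h2 := hsqE c hc
    rw [pow_succ, h2, one_mul] at h3
    exact h3
  obtain ⟨j, hj⟩ := hx
  have h6 : Abelianization.of h ^ 6 = 1 := by rw [← map_pow]; exact hE1 _ (hsix h)
  have hdvd : orderOf (Abelianization.of h) ∣ 6 := orderOf_dvd_of_pow_eq_one h6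
  refine orderOf_dvd_iff_pow_eq_one.1 ?_
  rw [hj] at hdvd ⊢
  rcases Nat.lt_or_ge j 2 with h' | h'
  · simpa using Nat.pow_dvd_pow 2 (show j ≤ 1 by omega)
  · have := (Nat.pow_dvd_pow 2 h').trans hdvd
    norm_num at this

end Cfsg.Agent.LargeExtra.Setting
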