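import Mathlib
import Cfsg.Prelude.Def_Transfer
import Cfsg.Agent.LargeExtra.Pair
import Cfsg.Agent.PGroup.Extraspecial

/-!
Transfer into an elementary abelian 2-group from the centraliser of an involution with a large extraspecial
normal subgroup: the orbits of that subgroup on the conjugates of the involution contribute trivially.
-/

set_option autoImplicit false

namespace Cfsg.Agent.LargeExtra.Tr

open Cfsg
open scoped commutatorElement Classical

variable {G : Type*} [Group G] {H : Subgroup G} {A : Type*} [CommGroup A]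

theorem coc_mem (g : G) (q : G ⧸ H) : (g • q).out⁻¹ * g * q.out ∈ H := by
  rw [mul_assoc, ← QuotientGroup.eq, QuotientGroup.out_eq']
  conv_lhs => rw [← QuotientGroup.out_eq' q]
  rfl

/-- The cocycle of the induced action. -/
noncomputable def coc (μ : H →* A) (g : G) (q : G ⧸ H) : A :=
  μ ⟨(g • q).out⁻¹ * g * q.out, coc_mem g q⟩

variable (μ : H →* A)

theorem coc_mul (g h : G) (q : G ⧸ H) : coc μ (g * h) q = coc μ g (h • q) * coc μ h q := by
  unfold coc
  rw [← map_mul]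
  congr 1
  refine Subtype.ext ?_
  simp only [Subgroup.coe_mul, mul_smul]
  group

theorem coc_one (q : G ⧸ H) : coc μ 1 q = 1 := by
  have h := coc_mul μ 1 1 q
  rw [one_mul, one_smul] at h
  exact left_eq_mul.1 h

theorem coc_base {h : G} (hh : h ∈ H) : coc μ h ((1 : G) : G ⧸ H) = μ ⟨h, hh⟩ := by
  have e : h • ((1 : G) : G ⧸ H) = ((1 : G) : G ⧸ H) := by
    show ((h * 1 : G) : G ⧸ H) = ((1 : G) : G ⧸ H)
    rw [QuotientGroup.eq, mul_one, mul_one]
    exact inv_mem hh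
  have ho : (((1 : G) : G ⧸ H)).out ∈ H := by
    have := QuotientGroup.eq.1 (QuotientGroup.out_eq' ((1 : G) : G ⧸ H))
    rwa [mul_one, inv_mem_iff] at this
  unfold coc
  calc μ _ = μ ((⟨_, ho⟩ : H)⁻¹ * ⟨h, hh⟩ * ⟨_, ho⟩) := by
        congr 1
        refine Subtype.ext ?_
        simp only [Subgroup.coe_mul, Subgroup.coe_inv, e]
    _ = μ ⟨h, hh⟩ := by rw [map_mul, map_mul, map_inv, mul_right_comm, inv_mul_cancel, one_mul]

variable [Finite G]

noncomputable instance instFintypeQuot : Fintype (G ⧸ H) := Fintype.ofFinite _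

/-- The orbit of a coset. -/
noncomputable def orb (M : Subgroup G) (q : G ⧸ H) : Finset (G ⧸ H) :=
  Finset.univ.filter fun r => ∃ m ∈ M, m • q = r

theorem mem_orb {M : Subgroup G} {q r : G ⧸ H} : r ∈ orb M q ↔ ∃ m ∈ M, m • q = r := by
  simp [orb]

theorem self_mem_orb (M : Subgroup G) (q : G ⧸ H) : q ∈ orb M q := mem_orb.2 ⟨1, one_mem _, one_smul _ _⟩

theorem smul_mem_orb {M : Subgroup G} {q r : G ⧸ H} {g : G} (hg : g ∈ M) (hr : r ∈ orb M q) :
    g • r ∈ orb M q := by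
  obtain ⟨m, hm, rfl⟩ := mem_orb.1 hr
  exact mem_orb.2 ⟨g * m, mul_mem hg hm, mul_smul _ _ _⟩

theorem orb_eq_of_mem {M : Subgroup G} {q r : G ⧸ H} (hr : r ∈ orb M q) : orb M r = orb M q := by
  obtain ⟨m, hm, rfl⟩ := mem_orb.1 hr
  ext x
  rw [mem_orb, mem_orb]
  constructor
  · rintro ⟨a, ha, rfl⟩
    exact ⟨a * m, mul_mem ha hm, mul_smul _ _ _⟩
  · rintro ⟨a, ha, rfl⟩
    exact ⟨a * m⁻¹, mul_mem ha (inv_mem hm), by rw [smul_smul, inv_mul_cancel_right]⟩

/-- The product of the cocycle over a set of cosets. -/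
noncomputable def F (S : Finset (G ⧸ H)) (g : G) : A := ∏ q ∈ S, coc μ g q

theorem F_mul {S : Finset (G ⧸ H)} (g : G) {h : G} (hS : ∀ q ∈ S, h • q ∈ S) :
    F μ S (g * h) = F μ S g * F μ S h := by
  unfold F
  simp only [coc_mul, Finset.prod_mul_distrib]
  congr 1
  have e : S.map (MulAction.toPerm h : Equiv.Perm (G ⧸ H)).toEmbedding = S := by
    refine Finset.eq_of_subset_of_card_le (fun x hx => ?_) (by rw [Finset.card_map])
    obtain ⟨y, hy, rfl⟩ := Finset.mem_map.1 hx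
    exact hS y hy
  conv_rhs => rw [← e, Finset.prod_map]
  rfl

theorem F_mul_orb {M : Subgroup G} {q : G ⧸ H} (g : G) {h : G} (hh : h ∈ M) :
    F μ (orb M q) (g * h) = F μ (orb M q) g * F μ (orb M q) h :=
  F_mul μ g fun _ hr => smul_mem_orb hh hr

theorem F_one (S : Finset (G ⧸ H)) : F μ S 1 = 1 := by simp [F, coc_one]

theorem F_inv (hA : ∀ a : A, a * a = 1) {M : Subgroup G} {q : G ⧸ H} {g : G} (hg : g ∈ M) :
    F μ (orb M q) g⁻¹ = F μ (orb M q) g := by
  have h := F_mul_orb μ (q := q) g⁻¹ hg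
  rw [inv_mul_cancel, F_one] at h
  calc F μ (orb M q) g⁻¹ = F μ (orb M q) g⁻¹ * F μ (orb M q) g * F μ (orb M q) g := by
        rw [mul_assoc, hA, mul_one]
    _ = F μ (orb M q) g := by rw [← h, one_mul]

theorem F_translate {S : Finset (G ⧸ H)} (g e : G) (hS : ∀ q ∈ S, (e⁻¹ * g * e) • q ∈ S) :
    F μ (S.image (e • ·)) g = F μ S (e⁻¹ * g * e) := by
  have hinj : Set.InjOn (fun q : G ⧸ H => e • q) S := fun a _ b _ h => smul_left_cancel e h
  have h := F_mul μ e hS
  rw [show e * (e⁻¹ * g * e) = g * e by group] at h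
  have h' : F μ S (g * e) = F μ (S.image (e • ·)) g * F μ S e := by
    unfold F
    rw [Finset.prod_image hinj, ← Finset.prod_mul_distrib]
    exact Finset.prod_congr rfl fun q _ => coc_mul μ g e q
  rw [h'] at h
  exact mul_right_cancel (h.trans (mul_comm _ _))

theorem F_central {M : Subgroup G} {q : G ⧸ H} {c : G} (hc : ∀ m ∈ M, c * m = m * c) (hq : c • q = q) :
    F μ (orb M q) c = coc μ c q ^ (orb M q).card := by
  unfold F
  refine Finset.prod_eq_pow_card fun r hr => ?_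
  obtain ⟨m, hm, rfl⟩ := mem_orb.1 hr
  have h1 := coc_mul μ c m q
  have h2 := coc_mul μ m c q
  rw [hc m hm, h2, hq] at h1
  exact (mul_right_cancel ((h1.symm).trans (mul_comm _ _)))

/-- A subgroup of index two above the stabiliser splits the orbit into two. -/
theorem orb_split {M M₁ : Subgroup G} {q : G ⧸ H} (hle : M₁ ≤ M)
    (hstab : ∀ m ∈ M, m • q = q → m ∈ M₁) {e : G} (he : e ∈ M) (hne : e ∉ M₁)
    (hidx : ∀ m ∈ M, m ∉ M₁ → e⁻¹ * m ∈ M₁) :
    orb M q = orb M₁ q ∪ (orb M₁ q).image (e • ·) ∧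
      Disjoint (orb M₁ q) ((orb M₁ q).image (e • ·)) := by
  constructor
  · ext r
    simp only [Finset.mem_union, Finset.mem_image, mem_orb]
    constructor
    · rintro ⟨m, hm, rfl⟩
      by_cases h1 : m ∈ M₁
      · exact Or.inl ⟨m, h1, rfl⟩
      · exact Or.inr ⟨(e⁻¹ * m) • q, ⟨_, hidx m hm h1, rfl⟩, by rw [smul_smul, mul_inv_cancel_left]⟩
    · rintro (⟨m, hm, rfl⟩ | ⟨_, ⟨m, hm, rfl⟩, rfl⟩)
      · exact ⟨m, hle hm, rfl⟩
      · exact ⟨e * m, mul_mem he (hle hm), mul_smul _ _ _⟩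
  · rw [Finset.disjoint_left]
    rintro r hr hr'
    obtain ⟨a, ha, rfl⟩ := mem_orb.1 hr
    obtain ⟨s, hs, h⟩ := Finset.mem_image.1 hr'
    obtain ⟨b, hb, rfl⟩ := mem_orb.1 hs
    have hfix : (a⁻¹ * (e * b)) • q = q := by
      rw [mul_smul, mul_smul, h, inv_smul_smul]
    have := hstab _ (mul_mem (inv_mem (hle ha)) (mul_mem he (hle hb))) hfix
    refine hne ?_
    have e' : e = a * (a⁻¹ * (e * b)) * b⁻¹ := by group
    rw [e']
    exact mul_mem (mul_mem ha this) (inv_mem hb)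

/-- The contribution of an orbit in terms of that of half of it. -/
theorem F_step {M M₁ : Subgroup G} {q : G ⧸ H} (hle : M₁ ≤ M)
    (hnorm : ∀ m ∈ M, ∀ x ∈ M₁, m * x * m⁻¹ ∈ M₁)
    (hstab : ∀ m ∈ M, m • q = q → m ∈ M₁) {e : G} (he : e ∈ M) (hne : e ∉ M₁)
    (hidx : ∀ m ∈ M, m ∉ M₁ → e⁻¹ * m ∈ M₁) :
    (∀ x ∈ M₁, F μ (orb M q) x = F μ (orb M₁ q) x * F μ (orb M₁ q) (e⁻¹ * x * e)) ∧
      F μ (orb M q) e = F μ (orb M₁ q) (e * e) := by
  obtain ⟨hU, hdis⟩ := orb_split hle hstab he hne hidx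
  have hsum : ∀ g, F μ (orb M q) g = F μ (orb M₁ q) g * F μ ((orb M₁ q).image (e • ·)) g := by
    intro g
    unfold F
    rw [hU, Finset.prod_union hdis]
  refine ⟨fun x hx => ?_, ?_⟩
  · have hc : e⁻¹ * x * e ∈ M₁ := by simpa using hnorm e⁻¹ (inv_mem he) x hx
    rw [hsum, F_translate μ x e fun r hr => smul_mem_orb hc hr]
  · rw [hsum]
    unfold F
    rw [Finset.prod_image (fun a _ b _ h => smul_left_cancel e h)]
    simp only [coc_mul, Finset.prod_mul_distrib]
    exact mul_comm _ _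

theorem index_two_facts {M M₁ : Subgroup G} (hle : M₁ ≤ M) (hidx : M₁.relIndex M = 2) :
    (∀ m ∈ M, ∀ x ∈ M₁, m * x * m⁻¹ ∈ M₁) ∧
      ∀ e ∈ M, e ∉ M₁ → ∀ m ∈ M, m ∉ M₁ → e⁻¹ * m ∈ M₁ := by
  have h2 : (M₁.subgroupOf M).index = 2 := hidx
  refine ⟨fun m hm x hx => ?_, fun e he hne m hm hm1 => ?_⟩
  · haveI := Subgroup.normal_of_index_eq_two h2
    exact (inferInstance : (M₁.subgroupOf M).Normal).conj_mem ⟨x, hle hx⟩ hx ⟨m, hm⟩
  · have := (Subgroup.mul_mem_iff_of_index_two h2 (a := (⟨e, he⟩ : M)⁻¹) (b := ⟨m, hm⟩)).2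
      (iff_of_false (by simpa [Subgroup.mem_subgroupOf] using hne)
        (by simpa [Subgroup.mem_subgroupOf] using hm1))
    simpa [Subgroup.mem_subgroupOf] using this

/-- A maximal subgroup above a proper subgroup of a 2-group. -/
theorem exists_index_two {M L : Subgroup G} (hM : IsPGroup 2 M) (hLM : L ≤ M) (hne : L ≠ M) :
    ∃ M₁ : Subgroup G, L ≤ M₁ ∧ M₁ ≤ M ∧ M₁.relIndex M = 2 := by
  haveI : Fact (Nat.Prime 2) := ⟨Nat.prime_two⟩
  haveI : Group.IsNilpotent M := hM.isNilpotent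
  obtain ⟨K, hK, hLK⟩ := (IsCoatomic.eq_top_or_exists_le_coatom (L.subgroupOf M)).resolve_left
    fun h => hne (le_antisymm hLM (Subgroup.subgroupOf_eq_top.1 h))
  haveI hKn : K.Normal := Subgroup.NormalizerCondition.normal_of_coatom K Group.normalizerCondition_of_isNilpotent hK
  obtain ⟨k, hk⟩ := hM.index K
  have h2 : K.index = 2 := by
    rcases Nat.eq_zero_or_pos k with rfl | hk0
    · exact absurd (Subgroup.index_eq_one.1 (by simpa using hk)) hK.1
    haveI : Finite (↥M ⧸ K) := inferInstance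
    have hdvd : 2 ∣ Nat.card (↥M ⧸ K) := by
      rw [← Subgroup.index_eq_card, hk]
      exact dvd_pow_self 2 hk0.ne'
    obtain ⟨x, hx⟩ := exists_prime_orderOf_dvd_card' 2 hdvd
    set C := (Subgroup.zpowers x).comap (QuotientGroup.mk' K) with hC
    have hKC : K ≤ C := by
      intro y hy
      rw [hC, Subgroup.mem_comap, QuotientGroup.mk'_apply, (QuotientGroup.eq_one_iff y).2 hy]
      exact one_mem _
    have hCK : C ≠ K := by
      intro e
      obtain ⟨y, rfl⟩ := QuotientGroup.mk_surjective x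
      have : y ∈ C := Subgroup.mem_zpowers _
      rw [e, ← QuotientGroup.eq_one_iff] at this
      rw [this, orderOf_one] at hx
      omega
    have hCtop : C = ⊤ := hK.2 C (lt_of_le_of_ne hKC (Ne.symm hCK))
    have htop : Subgroup.zpowers x = ⊤ := by
      rw [← Subgroup.map_comap_eq_self_of_surjective (QuotientGroup.mk'_surjective K) (Subgroup.zpowers x),
        ← hC, hCtop, Subgroup.map_top_of_surjective _ (QuotientGroup.mk'_surjective K)]
    rw [Subgroup.index_eq_card, ← Subgroup.card_top (G := ↥M ⧸ K), ← htop, Nat.card_zpowers, hx]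
  refine ⟨K.map M.subtype, fun x hx => ⟨⟨x, hLM hx⟩, hLK hx, rfl⟩, Subgroup.map_subtype_le _, ?_⟩
  rw [Subgroup.relIndex, Subgroup.subgroupOf,
    Subgroup.comap_map_eq_self_of_injective M.subtype_injective, h2]

/-- The stabiliser of a coset. -/
noncomputable def stab (M : Subgroup G) (q : G ⧸ H) : Subgroup G := M ⊓ MulAction.stabilizer G q

theorem mem_stab {M : Subgroup G} {q : G ⧸ H} {m : G} : m ∈ stab M q ↔ m ∈ M ∧ m • q = q := Iff.rfl

theorem stab_eq_self_iff {M : Subgroup G} {q : G ⧸ H} : stab M q = M ↔ (orb M q).card ≤ 1 := by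
  rw [Finset.card_le_one_iff_subset_singleton]
  constructor
  · intro h
    refine ⟨q, fun r hr => ?_⟩
    obtain ⟨m, hm, rfl⟩ := mem_orb.1 hr
    rw [Finset.mem_singleton]
    exact (mem_stab.1 (h.symm ▸ hm : m ∈ stab M q)).2
  · rintro ⟨x, hx⟩
    refine le_antisymm inf_le_left fun m hm => ⟨hm, ?_⟩
    have h1 := Finset.mem_singleton.1 (hx (mem_orb.2 ⟨m, hm, rfl⟩))
    have h2 := Finset.mem_singleton.1 (hx (self_mem_orb M q))
    show m • q = q
    rw [h1, h2]

theorem orb_card_split {M M₁ : Subgroup G} {q : G ⧸ H} (hle : M₁ ≤ M) (hidx : M₁.relIndex M = 2)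
    (hL : stab M q ≤ M₁) : (orb M q).card = 2 * (orb M₁ q).card := by
  obtain ⟨e, he, hne⟩ : ∃ e ∈ M, e ∉ M₁ := by
    by_contra h
    push Not at h
    rw [Subgroup.relIndex_eq_one.2 h] at hidx
    omega
  obtain ⟨hU, hdis⟩ := orb_split hle (fun m hm h => hL ⟨hm, h⟩) he hne ((index_two_facts hle hidx).2 e he hne)
  rw [hU, Finset.card_union_of_disjoint hdis,
    Finset.card_image_of_injective _ (fun a b h => smul_left_cancel e h)]
  omega

/-- A normal 2-subgroup of class two acting on the cosets. -/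
structure Normal2 (E M : Subgroup G) (z : G) : Prop where
  two : IsPGroup 2 M
  le : E ≤ M
  norm : ∀ m ∈ M, ∀ e ∈ E, m * e * m⁻¹ ∈ E
  central : ∀ m ∈ M, z * m = m * z
  zmem : z ∈ E
  sq : ∀ e ∈ E, e * e = 1 ∨ e * e = z
  comm : ∀ a ∈ E, ∀ b ∈ E, a⁻¹ * b⁻¹ * a * b = 1 ∨ a⁻¹ * b⁻¹ * a * b = z

/-- A transitive normal subgroup and a large enough orbit contribute trivially. -/
theorem F_transitive_of_large {E M : Subgroup G} {z : G} (hM : Normal2 E M z) (hA : ∀ a : A, a * a = 1)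
    {q : G ⧸ H} (htr : ∀ m ∈ M, ∃ e ∈ E, m • q = e • q) (hz : z • q = q) (h4 : 4 ≤ (orb M q).card)
    (hbig : coc μ z q = 1 ∨ 8 ≤ (orb M q).card) : ∀ x ∈ M, F μ (orb M q) x = 1 := by
  have hne : stab M q ≠ M := fun h => by have := stab_eq_self_iff.1 h; omega
  obtain ⟨M₁, hL₁, hle₁, hidx₁⟩ := exists_index_two hM.two inf_le_left hne
  obtain ⟨hn₁, hi₁⟩ := index_two_facts hle₁ hidx₁
  have hc1 := orb_card_split hle₁ hidx₁ hL₁
  have hst1 : stab M₁ q = stab M q :=
    le_antisymm (inf_le_inf_right _ hle₁) (le_inf hL₁ inf_le_right)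
  have hM₁ : IsPGroup 2 M₁ := hM.two.to_le hle₁
  have hne1 : stab M₁ q ≠ M₁ := fun h => by have := stab_eq_self_iff.1 h; omega
  obtain ⟨M₂, hL₂, hle₂, hidx₂⟩ := exists_index_two hM₁ inf_le_left hne1
  obtain ⟨hn₂, hi₂⟩ := index_two_facts hle₂ hidx₂
  have hc2 := orb_card_split hle₂ hidx₂ hL₂
  have hzL : z ∈ stab M q := ⟨hM.le hM.zmem, hz⟩
  have getE : ∀ (N N₁ : Subgroup G), N₁ ≤ N → N₁.relIndex N = 2 → N ≤ M → stab M q ≤ N₁ →
      ∃ e ∈ E, e ∈ N ∧ e ∉ N₁ := by
    intro N N₁ hN1 hidx hNM hL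
    obtain ⟨m, hm, hm1⟩ : ∃ m ∈ N, m ∉ N₁ := by
      by_contra h
      push Not at h
      rw [Subgroup.relIndex_eq_one.2 h] at hidx
      omega
    obtain ⟨e, he, hme⟩ := htr m (hNM hm)
    have hfix : e⁻¹ * m ∈ stab M q :=
      mem_stab.2 ⟨mul_mem (inv_mem (hM.le he)) (hNM hm), by
        rw [mul_smul, hme, inv_smul_smul]⟩
    refine ⟨e, he, ?_, fun h => hm1 ?_⟩
    · have : e = m * (e⁻¹ * m)⁻¹ := by group
      rw [this]
      exact mul_mem hm (inv_mem (hN1 (hL hfix)))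
    · have : m = e * (e⁻¹ * m) := by group
      rw [this]
      exact mul_mem h (hL hfix)
  obtain ⟨e₁, he₁E, he₁, hne₁⟩ := getE M M₁ hle₁ hidx₁ le_rfl hL₁
  obtain ⟨e₂, he₂E, he₂, hne₂⟩ := getE M₁ M₂ hle₂ hidx₂ hle₁ (hst1 ▸ hL₂)
  have hpow : ∀ (a : A) (k : ℕ), Even k → a ^ k = 1 := by
    rintro a _ ⟨j, rfl⟩
    rw [pow_add, hA]
  -- the contributions of the centre vanish
  have hz2 : ∀ c, c = 1 ∨ c = z → F μ (orb M₂ q) c = 1 := by
    intro c hc
    rcases hc with h' | h' <;> rw [h']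
    · exact F_one μ _
    rw [F_central μ (fun m hm => hM.central m (hle₁ (hle₂ hm))) hz]
    rcases hbig with h | h
    · rw [h, one_pow]
    · refine hpow _ _ ?_
      have hne2 : stab M₂ q ≠ M₂ := fun h' => by have := stab_eq_self_iff.1 h'; omega
      obtain ⟨M₃, hL₃, hle₃, hidx₃⟩ := exists_index_two (hM₁.to_le hle₂) inf_le_left hne2
      rw [orb_card_split hle₃ hidx₃ hL₃]
      exact even_two_mul _
  -- hence those of the elements of E in M₁
  obtain ⟨s2, -⟩ := F_step μ hle₂ hn₂ (fun m hm h => hL₂ ⟨hm, h⟩) he₂ hne₂ (hi₂ e₂ he₂ hne₂)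
  have hE1 : ∀ k ∈ E, k ∈ M₁ → F μ (orb M₁ q) k = 1 := by
    intro k hk hk1
    by_cases hk2 : k ∈ M₂
    · have hc : e₂⁻¹ * k * e₂ ∈ M₂ := by simpa using hn₂ e₂⁻¹ (inv_mem he₂) k hk2
      rw [s2 k hk2, ← F_inv μ hA hk2, ← F_mul_orb μ _ hc]
      refine hz2 _ ?_
      have := hM.comm k hk e₂ he₂E
      simpa only [mul_assoc] using this
    · obtain ⟨-, s⟩ := F_step μ hle₂ hn₂ (fun m hm h => hL₂ ⟨hm, h⟩) hk1 hk2 (hi₂ k hk1 hk2)
      rw [s]
      exact hz2 _ (hM.sq k hk)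
  have hz1 : ∀ c, c = 1 ∨ c = z → F μ (orb M₁ q) c = 1 := by
    intro c hc
    rcases hc with h' | h' <;> rw [h']
    · exact F_one μ _
    · exact hE1 z hM.zmem (hL₁ hzL)
  obtain ⟨s1, s1'⟩ := F_step μ hle₁ hn₁ (fun m hm h => hL₁ ⟨hm, h⟩) he₁ hne₁ (hi₁ e₁ he₁ hne₁)
  have hM1 : ∀ x ∈ M₁, F μ (orb M q) x = 1 := by
    intro x hx
    have hc : e₁⁻¹ * x * e₁ ∈ M₁ := by simpa using hn₁ e₁⁻¹ (inv_mem he₁) x hx
    rw [s1 x hx, ← F_inv μ hA hx, ← F_mul_orb μ _ hc]
    refine hE1 _ ?_ (mul_mem (inv_mem hx) hc)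
    have h1 : x⁻¹ * e₁⁻¹ * x ∈ E := by simpa using hM.norm x⁻¹ (inv_mem (hle₁ hx)) e₁⁻¹ (inv_mem he₁E)
    simpa only [mul_assoc] using mul_mem h1 he₁E
  intro x hx
  by_cases hx1 : x ∈ M₁
  · exact hM1 x hx1
  · have hm := hi₁ e₁ he₁ hne₁ x hx hx1
    rw [← mul_inv_cancel_left e₁ x, F_mul_orb μ _ (hle₁ hm), hM1 _ hm, mul_one, s1']
    exact hz1 _ (hM.sq e₁ he₁E)

/-- An orbit on whose stabiliser in E the values are trivial contributes trivially. -/
theorem F_transitive_of_trivial {E M : Subgroup G} {z : G} (hM : Normal2 E M z) (hA : ∀ a : A, a * a = 1)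
    {q : G ⧸ H} (htr : ∀ m ∈ M, ∃ e ∈ E, m • q = e • q)
    (hν : ∀ e ∈ E, e • q = q → coc μ e q = 1) (heven : Even (orb M q).card) :
    ∀ x ∈ M, F μ (orb M q) x = 1 := by
  let ψ : G ⧸ H → A := fun r => if h : ∃ e ∈ E, e • q = r then coc μ h.choose q else 1
  have hψ : ∀ e ∈ E, ψ (e • q) = coc μ e q := by
    intro e he
    have h : ∃ e' ∈ E, e' • q = e • q := ⟨e, he, rfl⟩
    simp only [ψ, dif_pos h]
    obtain ⟨h1, h2⟩ := h.choose_spec
    generalize h.choose = e' at h1 h2 ⊢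
    have hfix : (e'⁻¹ * e) • q = q := by rw [mul_smul, ← h2, inv_smul_smul]
    have := coc_mul μ e' (e'⁻¹ * e) q
    rw [mul_inv_cancel_left, hν _ (mul_mem (inv_mem h1) he) hfix, hfix, mul_one] at this
    exact this.symm
  have hprod : ∀ l ∈ M, (∏ r ∈ orb M q, ψ (l • r) * ψ r) = 1 := by
    intro l hl
    rw [Finset.prod_mul_distrib]
    have e : (orb M q).map (MulAction.toPerm l : Equiv.Perm (G ⧸ H)).toEmbedding = orb M q := by
      refine Finset.eq_of_subset_of_card_le (fun x hx => ?_) (by rw [Finset.card_map])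
      obtain ⟨y, hy, rfl⟩ := Finset.mem_map.1 hx
      exact smul_mem_orb hl hy
    have e' : ∏ r ∈ orb M q, ψ (l • r) = ∏ r ∈ orb M q, ψ r := by
      conv_rhs => rw [← e, Finset.prod_map]
      rfl
    rw [e', hA]
  have hmemE : ∀ r ∈ orb M q, ∃ e ∈ E, r = e • q := by
    intro r hr
    obtain ⟨m, hm, rfl⟩ := mem_orb.1 hr
    exact htr m hm
  have hEl : ∀ a ∈ E, F μ (orb M q) a = 1 := by
    intro a ha
    rw [← hprod a (hM.le ha)]
    refine Finset.prod_congr rfl fun r hr => ?_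
    obtain ⟨e, he, rfl⟩ := hmemE r hr
    rw [← mul_smul, hψ _ (mul_mem ha he), hψ _ he, coc_mul μ a e q, mul_assoc, hA, mul_one]
  have hLl : ∀ l ∈ M, l • q = q → F μ (orb M q) l = 1 := by
    intro l hl hlq
    have key : ∀ r ∈ orb M q, coc μ l r = ψ (l • r) * ψ r * coc μ l q := by
      intro r hr
      obtain ⟨e, he, rfl⟩ := hmemE r hr
      have hle : l * e * l⁻¹ ∈ E := hM.norm l hl e he
      have h1 := coc_mul μ l e q
      have h2 := coc_mul μ (l * e * l⁻¹) l q
      rw [show l * e * l⁻¹ * l = l * e by group, hlq, h1] at h2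
      have h3 : l • e • q = (l * e * l⁻¹) • q := by
        conv_rhs => rw [← hlq]
        rw [smul_smul, smul_smul]
        group
      rw [h3, hψ _ hle, hψ _ he]
      calc coc μ l (e • q) = coc μ l (e • q) * coc μ e q * coc μ e q := by rw [mul_assoc, hA, mul_one]
        _ = _ := by rw [h2, mul_right_comm]
    unfold F
    rw [Finset.prod_congr rfl key, Finset.prod_mul_distrib, hprod l hl, one_mul, Finset.prod_const]
    obtain ⟨j, hj⟩ := heven
    rw [hj, pow_add, hA]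
  intro x hx
  obtain ⟨e, he, hxe⟩ := htr x hx
  have hfix : (e⁻¹ * x) • q = q := by rw [mul_smul, hxe, inv_smul_smul]
  rw [← mul_inv_cancel_left e x, F_mul_orb μ _ (mul_mem (inv_mem (hM.le he)) hx), hEl e he,
    hLl _ (mul_mem (inv_mem (hM.le he)) hx) hfix, one_mul]

/-- Every orbit of a 2-group containing E contributes trivially, given the condition on the E-orbit. -/
theorem F_eq_one {E : Subgroup G} {z : G} (hA : ∀ a : A, a * a = 1) {q : G ⧸ H} (hz : z • q = q)
    (hmove : ∃ e ∈ E, e • q ≠ q)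
    (hcond : (∀ e ∈ E, e • q = q → coc μ e q = 1) ∨
      (4 ≤ (orb E q).card ∧ coc μ z q = 1) ∨ 8 ≤ (orb E q).card) :
    ∀ M : Subgroup G, Normal2 E M z → ∀ x ∈ M, F μ (orb M q) x = 1 := by
  intro M
  induction hk : Nat.card M using Nat.strong_induction_on generalizing M with
  | _ k ih =>
    intro hM
    by_cases htr : ∀ m ∈ M, ∃ e ∈ E, m • q = e • q
    · have horb : orb M q = orb E q := by
        refine Finset.ext fun r => ⟨fun hr => ?_, fun hr => ?_⟩
        · obtain ⟨m, hm, rfl⟩ := mem_orb.1 hr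
          obtain ⟨e, he, h⟩ := htr m hm
          exact mem_orb.2 ⟨e, he, h.symm⟩
        · obtain ⟨e, he, rfl⟩ := mem_orb.1 hr
          exact mem_orb.2 ⟨e, hM.le he, rfl⟩
      rw [← horb] at hcond
      rcases hcond with h | ⟨h4, h⟩ | h
      · refine F_transitive_of_trivial μ hM hA htr h ?_
        have hne : stab M q ≠ M := fun h' => by
          obtain ⟨e, he, hne⟩ := hmove
          have : e ∈ stab M q := h'.symm ▸ hM.le he
          exact hne this.2
        obtain ⟨M₁, hL₁, hle₁, hidx₁⟩ := exists_index_two hM.two inf_le_left hne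
        rw [orb_card_split hle₁ hidx₁ hL₁]
        exact even_two_mul _
      · exact F_transitive_of_large μ hM hA htr hz h4 (Or.inl h)
      · exact F_transitive_of_large μ hM hA htr hz (by omega) (Or.inr h)
    · have hne : E ⊔ stab M q ≠ M := fun h => htr fun m hm => by
        rw [← h] at hm
        have hn : stab M q ≤ Subgroup.normalizer (E : Set G) := fun l hl =>
          Subgroup.mem_normalizer_iff.2 fun e => ⟨fun he => hM.norm l hl.1 e he,
            fun he => by simpa [mul_assoc] using hM.norm l⁻¹ (inv_mem hl.1) _ he⟩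
        rw [← SetLike.mem_coe, Subgroup.coe_mul_of_right_le_normalizer_left E _ hn] at hm
        obtain ⟨e, he, l, hl, rfl⟩ := hm
        exact ⟨e, he, by
          show (e * l) • q = e • q
          rw [mul_smul, hl.2]⟩
      obtain ⟨M₁, hL₁, hle₁, hidx₁⟩ := exists_index_two hM.two (sup_le hM.le inf_le_left) hne
      obtain ⟨hn₁, hi₁⟩ := index_two_facts hle₁ hidx₁
      have hlt : Nat.card M₁ < k := by
        rw [← hk]
        have h := Subgroup.card_mul_index (M₁.subgroupOf M)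
        rw [show (M₁.subgroupOf M).index = 2 from hidx₁,
          Nat.card_congr (Subgroup.subgroupOfEquivOfLe hle₁).toEquiv] at h
        have := Nat.card_pos (α := M₁)
        omega
      have hM₁ : Normal2 E M₁ z :=
        { two := hM.two.to_le hle₁
          le := le_sup_left.trans hL₁
          norm := fun m hm => hM.norm m (hle₁ hm)
          central := fun m hm => hM.central m (hle₁ hm)
          zmem := hM.zmem
          sq := hM.sq
          comm := hM.comm }
      have hind := ih _ hlt M₁ rfl hM₁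
      obtain ⟨e, he, hne⟩ : ∃ e ∈ M, e ∉ M₁ := by
        by_contra h
        push Not at h
        rw [Subgroup.relIndex_eq_one.2 h] at hidx₁
        omega
      obtain ⟨s, s'⟩ := F_step μ hle₁ hn₁ (fun m hm h => hL₁ (le_sup_right (a := E) ⟨hm, h⟩)) he hne
        (hi₁ e he hne)
      have h1 : ∀ x ∈ M₁, F μ (orb M q) x = 1 := fun x hx => by
        rw [s x hx, hind x hx, hind _ (by simpa using hn₁ e⁻¹ (inv_mem he) x hx), mul_one]
      have hee : e * e ∈ M₁ := by
        have := Subgroup.mul_mem_iff_of_index_two (H := M₁.subgroupOf M) hidx₁ (a := ⟨e, he⟩) (b := ⟨e, he⟩)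
        exact this.2 Iff.rfl
      intro x hx
      by_cases hx1 : x ∈ M₁
      · exact h1 x hx1
      · have hm := hi₁ e he hne x hx hx1
        rw [← mul_inv_cancel_left e x, F_mul_orb μ _ (hle₁ hm), h1 _ hm, mul_one, s', hind _ hee]

end Cfsg.Agent.LargeExtra.Tr
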